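import Mathlib
import Cfsg.Agent.CpAut.Descent

/-!
# Descent in coordinates (helper966)

`F` a field, `σ` an automorphism of finite order `ℓ`, `g` a `σ`-semilinear permutation of `ι → F` with `g ^ ℓ = 1`:
`g = h ∘ σ ∘ h⁻¹` with `h` linear (`exists_linearEquiv`).  Matrices over the fixed field.
-/

set_option autoImplicit false

namespace Cfsg.Agent.H966.Frob

open Cfsg.Agent.CpAut.Descent

variable {F : Type*} [Field F] {ι : Type*} [Fintype ι] [DecidableEq ι]

/-- The coordinatewise action of a field automorphism. -/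
def frob (ι : Type*) (σ : F ≃+* F) : Equiv.Perm (ι → F) where
  toFun v := fun i => σ (v i)
  invFun v := fun i => σ.symm (v i)
  left_inv v := by funext i; simp
  right_inv v := by funext i; simp

omit [Fintype ι] [DecidableEq ι] in
theorem frob_apply (σ : F ≃+* F) (v : ι → F) (i : ι) : frob ι σ v i = σ (v i) := rfl

omit [Fintype ι] [DecidableEq ι] in
theorem semi_frob (σ : F ≃+* F) : Semi (frob ι σ) σ where
  add u v := by funext i; simp [frob_apply]
  smul a v := by funext i; simp [frob_apply]

/-- **Descent in coordinates.** -/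
theorem exists_linearEquiv {g : Equiv.Perm (ι → F)} {σ : F ≃+* F} (hg : Semi g σ) {ℓ : ℕ}
    (hσ : orderOf σ = ℓ) (hℓ : 0 < ℓ) (hgl : g ^ ℓ = 1) :
    ∃ h : (ι → F) ≃ₗ[F] (ι → F), ∀ v, g (h v) = h (frob ι σ v) := by
  obtain ⟨b, hb⟩ := exists_basis hg hσ hℓ hgl (ι := ι) (by rw [Module.finrank_fintype_fun_eq_card])
  refine ⟨b.equivFun.symm, fun v => ?_⟩
  rw [Module.Basis.equivFun_symm_apply, Module.Basis.equivFun_symm_apply, hg.map_sum]
  exact Finset.sum_congr rfl fun i _ => by rw [hg.smul, hb]; rfl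

/-- The fixed field of `σ`. -/
def fix (σ : F ≃+* F) : Subfield F := (σ : F →+* F).eqLocusField (RingHom.id F)

theorem mem_fix {σ : F ≃+* F} {a : F} : a ∈ fix σ ↔ σ a = a := Iff.rfl

/-- A vector over a subfield. -/
def inc (K : Subfield F) (v : ι → K) : ι → F := fun i => v i

omit [Fintype ι] [DecidableEq ι] in
theorem inc_apply (K : Subfield F) (v : ι → K) (i : ι) : inc K v i = v i := rfl

omit [Fintype ι] [DecidableEq ι] in
theorem inc_add (K : Subfield F) (u v : ι → K) : inc K (u + v) = inc K u + inc K v := rfl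

omit [Fintype ι] [DecidableEq ι] in
theorem inc_smul (K : Subfield F) (a : K) (v : ι → K) : inc K (a • v) = (a : F) • inc K v := rfl

omit [Fintype ι] [DecidableEq ι] in
theorem inc_injective (K : Subfield F) : Function.Injective (inc (ι := ι) K) := fun u v h => by
  funext i
  exact Subtype.ext (congrFun h i)

omit [Fintype ι] in
theorem inc_single (K : Subfield F) (i : ι) (a : K) :
    inc K (Pi.single i a) = Pi.single i (a : F) := by
  funext j
  rw [inc_apply]
  by_cases h : j = i
  · subst h; simp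
  · rw [Pi.single_eq_of_ne h, Pi.single_eq_of_ne h]; rfl

omit [Fintype ι] [DecidableEq ι] in
theorem frob_inc {σ : F ≃+* F} (v : ι → fix σ) : frob ι σ (inc _ v) = inc _ v := by
  funext i
  exact (v i).2

/-- **Extension of scalars.** A linear automorphism over a subfield extends. -/
theorem exists_extend (K : Subfield F) (k : (ι → K) ≃ₗ[K] (ι → K)) :
    ∃ k' : (ι → F) ≃ₗ[F] (ι → F), ∀ v, k' (inc K v) = inc K (k v) := by
  have hk : k.symm.toLinearMap ∘ₗ k.toLinearMap = LinearMap.id := by ext1 x; simp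
  have hk' : k.toLinearMap ∘ₗ k.symm.toLinearMap = LinearMap.id := by ext1 x; simp
  let M : Matrix ι ι K := LinearMap.toMatrix' k.toLinearMap
  let N : Matrix ι ι K := LinearMap.toMatrix' k.symm.toLinearMap
  have hNM : N * M = 1 := by
    rw [← LinearMap.toMatrix'_comp, hk, LinearMap.toMatrix'_id]
  have hMN : M * N = 1 := by
    rw [← LinearMap.toMatrix'_comp, hk', LinearMap.toMatrix'_id]
  have hM : ∀ v, M.mulVec v = k v := fun v => by
    rw [LinearMap.toMatrix'_mulVec]; rfl
  let M' : Matrix ι ι F := M.map (algebraMap K F)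
  let N' : Matrix ι ι F := N.map (algebraMap K F)
  have hNM' : N' * M' = 1 := by
    rw [← Matrix.map_mul, hNM, Matrix.map_one _ (map_zero _) (map_one _)]
  have hMN' : M' * N' = 1 := by
    rw [← Matrix.map_mul, hMN, Matrix.map_one _ (map_zero _) (map_one _)]
  refine ⟨LinearEquiv.ofLinear M'.mulVecLin N'.mulVecLin ?_ ?_, fun v => ?_⟩
  · rw [← Matrix.mulVecLin_mul, hMN', Matrix.mulVecLin_one]
  · rw [← Matrix.mulVecLin_mul, hNM', Matrix.mulVecLin_one]
  · change M'.mulVec (inc K v) = _
    rw [← hM]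
    funext i
    simp only [Matrix.mulVec, dotProduct, inc_apply, M', Matrix.map_apply]
    push_cast
    rfl

/-- An additive relation on vectors over the fixed field extends. -/
theorem frob_comm {σ : F ≃+* F} {k' : (ι → F) ≃ₗ[F] (ι → F)} {k : (ι → fix σ) → (ι → fix σ)}
    (h : ∀ v, k' (inc _ v) = inc _ (k v)) (v : ι → F) : k' (frob ι σ v) = frob ι σ (k' v) := by
  have h1 : ∀ v : ι → F, v = ∑ i, v i • inc (fix σ) (Pi.single i 1) := fun v => by
    funext j
    rw [Finset.sum_apply]
    simp [inc_single, Pi.single_apply]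
  have hs := semi_frob (ι := ι) σ
  rw [h1 v, hs.map_sum, map_sum, map_sum, hs.map_sum]
  refine Finset.sum_congr rfl fun i _ => ?_
  rw [hs.smul, map_smul, map_smul, hs.smul, frob_inc, h, frob_inc]

end Cfsg.Agent.H966.Frob
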