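import Mathlib
import Cfsg.Prelude.Def_LieTypeDatum
import Cfsg.Agent.H966.PSpField
import Cfsg.Agent.ClassicalGeometry.SympAutTwo
import Cfsg.Agent.ClassicalGeometry.SympAutExists

/-!
# `Inndiag(PSp)` and standard field automorphisms through semisimilitudes (helper966)

* `inndiag_eq` : `inndiagPSp m F` is the image under `Psi` of the similitudes;
* `inndiag_normal` : it is normal in the automorphism group (`F` finite, `m ≥ 2`, `(m, |F|) ≠ (2, 2)`);
* `eq_Psi_frob` : standard field automorphisms are the images of `frobPerm`.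
-/

set_option autoImplicit false

namespace Cfsg.Agent.H966.PSpAut

open Cfsg
open scoped Matrix
open Cfsg.Agent.ClassicalGeometry.SympBasic Cfsg.Agent.ClassicalGeometry.SympAutSemi
  Cfsg.Agent.ClassicalGeometry.SympGamma

universe u

variable {F : Type u} [Field F] {m : ℕ}

/-- The semilinear permutation `v ↦ g σ(v)`. -/
def permOf (g : GL (Fin m ⊕ Fin m) F) (σ : F ≃+* F) : Equiv.Perm (Fin m ⊕ Fin m → F) where
  toFun v := (g : Matrix (Fin m ⊕ Fin m) (Fin m ⊕ Fin m) F) *ᵥ (fun i => σ (v i))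
  invFun v := fun i => σ.symm ((((g⁻¹ : GL (Fin m ⊕ Fin m) F) : Matrix _ _ F) *ᵥ v) i)
  left_inv v := by
    funext i
    simp only [Matrix.mulVec_mulVec]
    rw [← Units.val_mul, inv_mul_cancel]
    simp
  right_inv v := by
    simp only [RingEquiv.apply_symm_apply]
    rw [Matrix.mulVec_mulVec, ← Units.val_mul, mul_inv_cancel]
    simp

theorem permOf_apply (g : GL (Fin m ⊕ Fin m) F) (σ : F ≃+* F) (v : Fin m ⊕ Fin m → F) :
    permOf g σ v = (g : Matrix (Fin m ⊕ Fin m) (Fin m ⊕ Fin m) F) *ᵥ (fun i => σ (v i)) := rfl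

theorem permOf_one (σ : F ≃+* F) : permOf (1 : GL (Fin m ⊕ Fin m) F) σ = frobPerm m σ := by
  ext1 v
  rw [permOf_apply]
  simp only [Units.val_one, Matrix.one_mulVec]
  rfl

theorem map_mulVec (σ : F ≃+* F) (A : Matrix (Fin m ⊕ Fin m) (Fin m ⊕ Fin m) F)
    (v : Fin m ⊕ Fin m → F) :
    (A.map σ) *ᵥ (fun i => σ (v i)) = fun i => σ ((A *ᵥ v) i) := by
  funext i
  simp [Matrix.mulVec, dotProduct, map_sum]

/-- An automorphism induced by `(g, σ)` is `Psi (permOf g σ)`. -/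
theorem eq_Psi {g : GL (Fin m ⊕ Fin m) F} {σ : F ≃+* F} {c : F} (hc : c ≠ 0)
    (hg : IsSemi (permOf g σ) σ c) {β : MulAut (PSp m F)} :
    IsInducedBySemilinearPSp g σ β ↔ β = Psi m F ⟨permOf g σ, σ, c, hc, hg⟩ := by
  have key : ∀ s s' : Matrix.symplecticGroup (Fin m) F,
      ((s' : Matrix (Fin m ⊕ Fin m) (Fin m ⊕ Fin m) F) =
        (g : Matrix (Fin m ⊕ Fin m) (Fin m ⊕ Fin m) F) * (s : Matrix _ _ F).map σ *
          ((g⁻¹ : GL (Fin m ⊕ Fin m) F) : Matrix _ _ F)) ↔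
      conjHom m F ⟨permOf g σ, σ, c, hc, hg⟩ s = s' := by
    intro s s'
    rw [← rho_injective.eq_iff, rho_conjHom, mul_inv_eq_iff_eq_mul]
    constructor
    · intro h
      ext1 v
      rw [Equiv.Perm.mul_apply, Equiv.Perm.mul_apply]
      change permOf g σ (rho m F s v) = rho m F s' (permOf g σ v)
      rw [rho_apply, rho_apply, permOf_apply, permOf_apply, h, Matrix.mulVec_mulVec, mul_assoc,
        ← Units.val_mul, inv_mul_cancel, Units.val_one, mul_one, ← Matrix.mulVec_mulVec,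
        map_mulVec]
    · intro h
      rw [← Matrix.mulVec_injective.eq_iff]
      funext v
      have h1 := DFunLike.congr_fun h ((permOf g σ)⁻¹ v)
      rw [Equiv.Perm.mul_apply, Equiv.Perm.mul_apply] at h1
      change permOf g σ (rho m F s ((permOf g σ)⁻¹ v)) = rho m F s' (permOf g σ ((permOf g σ)⁻¹ v)) at h1
      have h2 : permOf g σ ((permOf g σ)⁻¹ v) = v := (permOf g σ).apply_symm_apply v
      rw [h2, rho_apply, rho_apply, permOf_apply] at h1
      rw [← h1, ← map_mulVec, ← Matrix.mulVec_mulVec, ← Matrix.mulVec_mulVec]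
      congr 2
      funext i
      exact σ.apply_symm_apply _
  constructor
  · intro h
    ext x
    induction x using QuotientGroup.induction_on with
    | H s =>
      rw [Psi_mk]
      exact h s _ ((key s _).2 rfl)
  · rintro rfl s s' h
    rw [Psi_mk, (key s s').1 h]

theorem isSemi_of_mem_GSp {g : GL (Fin m ⊕ Fin m) F} (hg : g ∈ GSp m F) :
    ∃ c : F, c ≠ 0 ∧ IsSemi (permOf g (RingEquiv.refl F)) (RingEquiv.refl F) c := by
  obtain ⟨c, hc⟩ := hg
  refine ⟨c, c.ne_zero, fun u v => ?_, fun a v => ?_, fun u v => ?_⟩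
  · exact Matrix.mulVec_add (g : Matrix (Fin m ⊕ Fin m) (Fin m ⊕ Fin m) F) u v
  · exact Matrix.mulVec_smul (g : Matrix (Fin m ⊕ Fin m) (Fin m ⊕ Fin m) F) a v
  · exact hc u v

theorem exists_mem_GSp {h : Equiv.Perm (Fin m ⊕ Fin m → F)} {e : F} (he : e ≠ 0)
    (hh : IsSemi h (RingEquiv.refl F) e) :
    ∃ g : GL (Fin m ⊕ Fin m) F, g ∈ GSp m F ∧ permOf g (RingEquiv.refl F) = h := by
  let L : (Fin m ⊕ Fin m → F) ≃ₗ[F] (Fin m ⊕ Fin m → F) :=
    { toFun := h
      map_add' := hh.1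
      map_smul' := hh.2.1
      invFun := h.symm
      left_inv := h.left_inv
      right_inv := h.right_inv }
  have h1 : LinearMap.toMatrix' L.toLinearMap * LinearMap.toMatrix' L.symm.toLinearMap = 1 := by
    rw [← LinearMap.toMatrix'_comp, LinearEquiv.comp_symm, LinearMap.toMatrix'_id]
  have h2 : LinearMap.toMatrix' L.symm.toLinearMap * LinearMap.toMatrix' L.toLinearMap = 1 := by
    rw [← LinearMap.toMatrix'_comp, LinearEquiv.symm_comp, LinearMap.toMatrix'_id]
  let g : GL (Fin m ⊕ Fin m) F := ⟨LinearMap.toMatrix' L.toLinearMap, LinearMap.toMatrix' L.symm.toLinearMap, h1, h2⟩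
  have hL : ∀ v, (g : Matrix (Fin m ⊕ Fin m) (Fin m ⊕ Fin m) F) *ᵥ v = h v := fun v => by
    change LinearMap.toMatrix' L.toLinearMap *ᵥ v = h v
    rw [LinearMap.toMatrix'_mulVec]
    rfl
  refine ⟨g, ⟨Units.mk0 e he, fun u v => ?_⟩, ?_⟩
  · rw [hL, hL, hh.2.2]
    rfl
  · ext1 v
    exact hL v

/-- The similitudes. -/
def lin (m : ℕ) (F : Type u) [Field F] : Subgroup (semiSim m F) where
  carrier := {h | ∃ e : F, e ≠ 0 ∧ IsSemi h.1 (RingEquiv.refl F) e}
  mul_mem' := by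
    rintro a b ⟨e, he, ha⟩ ⟨f, hf, hb⟩
    exact ⟨_, mul_ne_zero he (by simpa using hf), ha.mul hb⟩
  one_mem' := ⟨1, one_ne_zero, PSpField.isSemi_one⟩
  inv_mem' := by
    rintro a ⟨e, he, ha⟩
    exact ⟨_, by simpa using he, ha.inv he⟩

theorem mem_lin {h : semiSim m F} : h ∈ lin m F ↔ ∃ e : F, e ≠ 0 ∧ IsSemi h.1 (RingEquiv.refl F) e :=
  Iff.rfl

theorem lin_normal : (lin m F).Normal := by
  refine ⟨fun h ⟨e, he, hh⟩ g => ?_⟩
  obtain ⟨g, φ, l, hl, hg⟩ := g
  have h1 := (hg.mul hh).mul (hg.inv hl)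
  have h2 : φ.symm.trans ((RingEquiv.refl F).trans φ) = RingEquiv.refl F := by
    ext a; simp
  rw [h2] at h1
  refine ⟨_, ?_, h1⟩
  have : φ e ≠ 0 := by simpa using he
  refine mul_ne_zero (mul_ne_zero hl this) ?_
  simpa using hl

theorem inndiag_eq : inndiagPSp m F = (lin m F).map (Psi m F) := by
  have h1 : {β : MulAut (PSp m F) | IsInnerDiagonalAutPSp β} = ((lin m F).map (Psi m F) : Set _) := by
    ext β
    constructor
    · rintro ⟨g, hg, hβ⟩
      obtain ⟨c, hc, hs⟩ := isSemi_of_mem_GSp hg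
      exact ⟨⟨permOf g (RingEquiv.refl F), _, c, hc, hs⟩, ⟨c, hc, hs⟩, ((eq_Psi hc hs).1 hβ).symm⟩
    · rintro ⟨⟨h, hmem⟩, ⟨e, he, hh⟩, rfl⟩
      obtain ⟨g, hg, rfl⟩ := exists_mem_GSp he hh
      exact ⟨g, hg, (eq_Psi he hh).2 rfl⟩
  unfold inndiagPSp autSubgroupOf
  rw [h1, Subgroup.closure_eq]

theorem mem_inndiag {β : MulAut (PSp m F)} :
    β ∈ inndiagPSp m F ↔ ∃ h ∈ lin m F, Psi m F h = β := by
  rw [inndiag_eq]; rfl

/-- Standard field automorphisms. -/
theorem eq_Psi_frob {σ : F ≃+* F} {β : MulAut (PSp m F)} :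
    IsStdFieldAutPSp σ β ↔ β = Psi m F ⟨frobPerm m σ, σ, 1, one_ne_zero, isSemi_frobPerm σ⟩ := by
  have hs : IsSemi (permOf (1 : GL (Fin m ⊕ Fin m) F) σ) σ 1 := by
    rw [permOf_one]; exact isSemi_frobPerm σ
  have h1 : IsStdFieldAutPSp σ β ↔ IsInducedBySemilinearPSp (1 : GL (Fin m ⊕ Fin m) F) σ β := by
    unfold IsStdFieldAutPSp IsInducedBySemilinearPSp
    simp
  rw [h1, eq_Psi one_ne_zero hs]
  have h2 : (⟨permOf (1 : GL (Fin m ⊕ Fin m) F) σ, σ, 1, one_ne_zero, hs⟩ : semiSim m F) =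
      ⟨frobPerm m σ, σ, 1, one_ne_zero, isSemi_frobPerm σ⟩ := Subtype.ext (permOf_one σ)
  rw [h2]

/-- `Psi` of `rho`. -/
theorem Psi_rho (A : Matrix.symplecticGroup (Fin m) F) (h : rho m F A ∈ semiSim m F) :
    Psi m F ⟨rho m F A, h⟩ = MulAut.conj (QuotientGroup.mk A) := by
  ext x
  induction x using QuotientGroup.induction_on with
  | H s =>
    rw [Psi_mk, MulAut.conj_apply]
    have : conjHom m F ⟨rho m F A, h⟩ s = A * s * A⁻¹ := by
      apply rho_injective
      rw [rho_conjHom, map_mul, map_mul, map_inv]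
    rw [this]
    rfl

/-- In characteristic two all inner-diagonal automorphisms are inner. -/
theorem inndiag_le_inner [Finite F] (h2 : (2 : F) = 0) :
    inndiagPSp m F ≤ (MulAut.conj : PSp m F →* MulAut (PSp m F)).range := by
  intro β hβ
  obtain ⟨⟨h, hmem⟩, ⟨e, he, hh⟩, rfl⟩ := mem_inndiag.1 hβ
  have hchar : CharP F 2 := CharTwo.of_one_ne_zero_of_two_eq_zero one_ne_zero h2
  have := Fintype.ofFinite F
  obtain ⟨a, ha⟩ : ∃ a : F, a * a = e := by
    obtain ⟨a, ha⟩ := FiniteField.isSquare_of_char_two (F := F) (ringChar.eq_iff.2 hchar) e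
    exact ⟨a, ha.symm⟩
  have ha0 : a ≠ 0 := by rintro rfl; exact he (by rw [← ha, mul_zero])
  have h3 := (isSemi_scal (m := m) (Units.mk0 a ha0)⁻¹).mul hh
  obtain ⟨A, hA⟩ := exists_rho_eq (scal m F (Units.mk0 a ha0)⁻¹ * h) h3.1 h3.2.1 (by
    intro u v
    rw [h3.2.2]
    have : ((((Units.mk0 a ha0)⁻¹ : Fˣ) : F) * ((Units.mk0 a ha0)⁻¹ : Fˣ) * (RingEquiv.refl F) e) = 1 := by
      rw [← ha]
      change (((Units.mk0 a ha0)⁻¹ : Fˣ) : F) * ((Units.mk0 a ha0)⁻¹ : Fˣ) * (a * a) = 1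
      rw [Units.val_inv_eq_inv_val, Units.val_mk0]
      field_simp
    rw [this, one_mul]
    rfl)
  have hs : scal m F (Units.mk0 a ha0) ∈ semiSim m F :=
    ⟨RingEquiv.refl F, _, mul_ne_zero (Units.ne_zero _) (Units.ne_zero _), isSemi_scal _⟩
  have hr : rho m F A ∈ semiSim m F := ⟨RingEquiv.refl F, 1, one_ne_zero, isSemi_rho A⟩
  refine ⟨QuotientGroup.mk A, ?_⟩
  rw [← Psi_rho A hr]
  have h4 : (⟨h, hmem⟩ : semiSim m F) = ⟨scal m F (Units.mk0 a ha0), hs⟩ * ⟨rho m F A, hr⟩ := by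
    apply Subtype.ext
    change h = scal m F (Units.mk0 a ha0) * rho m F A
    rw [hA, ← mul_assoc]
    ext1 v
    rw [Equiv.Perm.mul_apply, Equiv.Perm.mul_apply, scal_apply, scal_apply, smul_smul,
      ← Units.val_mul, mul_inv_cancel, Units.val_one, one_smul]
  rw [h4, map_mul, Psi_scal, one_mul]

theorem inner_normal (G : Type*) [Group G] : (MulAut.conj : G →* MulAut G).range.Normal := by
  refine ⟨?_⟩
  rintro _ ⟨g, rfl⟩ α
  refine ⟨α g, ?_⟩
  ext x
  simp [MulAut.conj_apply]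

/-- In characteristic two the inner-diagonal automorphisms are exactly the inner ones. -/
theorem inndiag_eq_inner [Finite F] (h2 : (2 : F) = 0) :
    inndiagPSp m F = (MulAut.conj : PSp m F →* MulAut (PSp m F)).range := by
  apply le_antisymm (inndiag_le_inner h2)
  rintro _ ⟨g, rfl⟩
  induction g using QuotientGroup.induction_on with
  | H A =>
    have hr : rho m F A ∈ semiSim m F := ⟨RingEquiv.refl F, 1, one_ne_zero, isSemi_rho A⟩
    exact mem_inndiag.2 ⟨⟨rho m F A, hr⟩, ⟨1, one_ne_zero, isSemi_rho A⟩, Psi_rho A hr⟩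

/-- `Inndiag(PSp_{2m}(F))` is normal in the automorphism group. -/
theorem inndiag_normal [Finite F] (hm : 2 ≤ m) : (inndiagPSp m F).Normal := by
  by_cases h2 : (2 : F) = 0
  · rw [inndiag_eq_inner h2]
    exact inner_normal _
  · rw [inndiag_eq]
    have hsurj : Function.Surjective (Psi m F) := by
      intro α
      have hp : ClassicalGeometry.AutPSpCount.Pres α :=
        ClassicalGeometry.SympAutOddA.recog hm (Or.inr h2) α
      obtain ⟨g, hg⟩ := ClassicalGeometry.SympAutExists.exists_semi hm α hp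
      exact ⟨g, hg⟩
    exact lin_normal.map _ hsurj

end Cfsg.Agent.H966.PSpAut
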