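import Mathlib
import Cfsg.Prelude.Def_LieTypeDatum

/-!
# Cosets of a normal subgroup containing a given element (helper966)
-/

set_option autoImplicit false

namespace Cfsg.Agent.H966.Coset

open Cfsg

theorem orderOf_conj_eq {A : Type*} [Group A] (h x : A) : orderOf (h * x * h⁻¹) = orderOf x := by
  rw [← MulAut.conj_apply]
  exact MulEquiv.orderOf_eq (MulAut.conj h) x

/-- Reduction of "order `r` iff conjugate" to a conjugate `φ` of `x`. -/
theorem iff_of {A : Type*} [Group A] {D : Subgroup A} (hD : D.Normal) {x δ α φ : A} {r : ℕ}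
    (hφ : α * x * α⁻¹ = φ) (hxr : orderOf x = r) (hδ : δ ∈ D)
    (H : ∀ δ ∈ D, (δ * φ) ^ r = 1 → IsConjUnder D φ (δ * φ)) :
    orderOf (δ * x) = r ↔ IsConjUnder D x (δ * x) := by
  constructor
  · intro h
    have h1 : α * δ * α⁻¹ * φ = α * (δ * x) * α⁻¹ := by rw [← hφ]; group
    obtain ⟨k, hk, hk'⟩ := H (α * δ * α⁻¹) (hD.conj_mem δ hδ α) (by
      rw [h1, conj_pow, ← h, pow_orderOf_eq_one]; group)
    refine ⟨α⁻¹ * k * α, by simpa using hD.conj_mem k hk α⁻¹, ?_⟩
    have h2 : δ * x = α⁻¹ * (α * δ * α⁻¹ * φ) * α := by rw [h1]; group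
    rw [h2, hk', ← hφ]
    group
  · rintro ⟨h, -, hh⟩
    rw [hh, ← hxr]
    exact orderOf_conj_eq h x

end Cfsg.Agent.H966.Coset
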