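import Cfsg.Agent.H966.SporCrit

/-!
# The pair criterion for the sporadic rows of S4329 (helper966)

`l₁`, `l₂` primes dividing the order of the finite group `S` exactly once, `l₁ ∤ l₂ - 1`, `l₂ ∤ l₁ - 1`:
* `exists_or_section` : `S` has an element of order `l₁ l₂`, or a simple group with order divisible by `l₁ l₂` is
  involved in `S` (its order divides the order of `S`);
* `row_of_pair` : `Row p S`, if `S` has no element of order `l₁ l₂`, no simple `T` with `l₁ l₂ ∣ |T|` and `p |T| ∣ |S|`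
  exists, and `l₁`, `l₂` do not divide `p ^ k - 1` for `p ^ k ∣ |S|`.
-/

set_option autoImplicit false

namespace Cfsg.Agent.H966.Pair

open Subgroup Cfsg.Agent.H568

universe u

/-- The Frattini step. -/
theorem frattini_step {D : Type*} [Group D] [Finite D] {l m : ℕ} (hl : l.Prime) (hm : m.Prime) (hlm : l ≠ m)
    (hml : ¬ m ∣ l - 1) (N : Subgroup D) [N.Normal] (h1 : l ∣ Nat.card N) (h2 : ¬ l ^ 2 ∣ Nat.card D)
    (h3 : m ∣ Nat.card D) (h4 : ¬ m ∣ Nat.card N) : ∃ g : D, orderOf g = l * m := by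
  have hfl : Fact l.Prime := ⟨hl⟩
  have hfm : Fact m.Prime := ⟨hm⟩
  obtain ⟨P⟩ : Nonempty (Sylow l N) := inferInstance
  set Q : Subgroup D := (P : Subgroup N).map N.subtype with hQ
  have hPQ : Nat.card Q = Nat.card (P : Subgroup N) :=
    Nat.card_congr ((P : Subgroup N).equivMapOfInjective _ N.subtype_injective).symm.toEquiv
  have hsup : normalizer (Q : Set D) ⊔ N = ⊤ := Sylow.normalizer_sup_eq_top P
  -- `m` divides the order of the normalizer
  have h5 : m ∣ Nat.card (D ⧸ N) := by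
    have h6 := N.card_eq_card_quotient_mul_card_subgroup
    rw [h6] at h3
    exact (hm.dvd_mul.1 h3).resolve_right h4
  have h6 : m ∣ Nat.card ↥(normalizer (Q : Set D)) := by
    refine h5.trans ?_
    refine Subgroup.card_dvd_of_surjective ((QuotientGroup.mk' N).comp (normalizer (Q : Set D)).subtype) ?_
    intro x
    obtain ⟨g, rfl⟩ := QuotientGroup.mk'_surjective N x
    have hg : g ∈ normalizer (Q : Set D) ⊔ N := hsup ▸ mem_top g
    obtain ⟨y, hy, z, hz, rfl⟩ := Subgroup.mem_sup_of_normal_right.1 hg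
    refine ⟨⟨y, hy⟩, ?_⟩
    show QuotientGroup.mk' N y = QuotientGroup.mk' N (y * z)
    rw [map_mul, (QuotientGroup.eq_one_iff z).2 hz |> fun h => (show QuotientGroup.mk' N z = 1 from h), mul_one]
  obtain ⟨⟨y, hyN⟩, hy⟩ := exists_prime_orderOf_dvd_card' m h6
  have hy' : orderOf y = m := by rw [← hy]; exact (Subgroup.orderOf_mk y hyN).symm
  -- an element of order `l` of `Q`
  have h7 : l ∣ Nat.card Q := by
    rw [hPQ]
    exact P.dvd_card_of_dvd_card h1
  obtain ⟨⟨c, hcQ⟩, hc⟩ := exists_prime_orderOf_dvd_card' l h7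
  have hc' : orderOf c = l := by rw [← hc]; exact (Subgroup.orderOf_mk c hcQ).symm
  have hQp : IsPGroup l Q := by
    rw [hQ]
    exact P.isPGroup'.map _
  have h8 : PCent l y := by
    refine SporCrit.pcent_of_order hm hy' hlm.symm ?_
    intro k hk hd
    have hk1 : k = 1 := by
      by_contra hne
      exact h2 ((pow_dvd_pow l (by omega : 2 ≤ k)).trans hd)
    rw [hk1, pow_one]
    exact hml
  have h9 : y * c = c * y := h8 Q hQp hyN c hcQ
  refine ⟨c * y, ?_⟩
  rw [(show Commute c y from h9.symm).orderOf_mul_eq_mul_orderOf_of_coprime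
    (by rw [hc', hy']; exact (Nat.coprime_primes hl hm).2 hlm), hc', hy']

/-- The dichotomy. -/
theorem exists_or_section {l₁ l₂ : ℕ} (h1 : l₁.Prime) (h2 : l₂.Prime) (hne : l₁ ≠ l₂) (h12 : ¬ l₁ ∣ l₂ - 1)
    (h21 : ¬ l₂ ∣ l₁ - 1) (n : ℕ) : ∀ (D : Type u) [Group D] [Finite D], Nat.card D = n →
    l₁ ∣ Nat.card D → ¬ l₁ ^ 2 ∣ Nat.card D → l₂ ∣ Nat.card D → ¬ l₂ ^ 2 ∣ Nat.card D →
    (∃ g : D, orderOf g = l₁ * l₂) ∨ ∃ (T : Type u) (_ : Group T) (_ : Finite T), IsSimpleGroup T ∧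
      l₁ * l₂ ∣ Nat.card T ∧ Nat.card T ∣ Nat.card D := by
  induction n using Nat.strong_induction_on with
  | _ n ih =>
    intro D _ _ hn d1 d1' d2 d2'
    by_cases hs : IsSimpleGroup D
    · exact Or.inr ⟨D, inferInstance, inferInstance, hs,
        ((Nat.coprime_primes h1 h2).2 hne).mul_dvd_of_dvd_of_dvd d1 d2, dvd_rfl⟩
    · have hnt : Nontrivial D := by
        by_contra hcon
        rw [not_nontrivial_iff_subsingleton] at hcon
        rw [Nat.card_of_subsingleton (1 : D)] at d1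
        exact h1.one_lt.ne' (Nat.dvd_one.1 d1)
      obtain ⟨N, hN, hNb, hNt⟩ : ∃ N : Subgroup D, N.Normal ∧ N ≠ ⊥ ∧ N ≠ ⊤ := by
        by_contra hcon
        push Not at hcon
        exact hs ⟨fun H hH => by
          by_cases hb : H = ⊥
          · exact Or.inl hb
          · exact Or.inr (hcon H hH hb)⟩
      have hcard := N.card_eq_card_quotient_mul_card_subgroup
      have hpos : 0 < Nat.card D := Nat.card_pos
      have hNlt : Nat.card N < n := by
        rw [← hn]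
        refine lt_of_le_of_ne (Nat.le_of_dvd hpos (Subgroup.card_subgroup_dvd_card N)) ?_
        intro h
        exact hNt (Subgroup.eq_top_of_card_eq N h)
      have hQlt : Nat.card (D ⧸ N) < n := by
        rw [← hn]
        refine lt_of_le_of_ne (Nat.le_of_dvd hpos (hcard ▸ Dvd.intro _ rfl)) ?_
        intro h
        rw [← h] at hcard
        have h3 : Nat.card N = 1 := by
          have h4 : 0 < Nat.card (D ⧸ N) := Nat.card_pos
          exact Nat.eq_of_mul_eq_mul_left h4 (by rw [mul_one]; exact hcard.symm)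
        exact hNb (Subgroup.card_eq_one.1 h3)
      have hNd : Nat.card N ∣ Nat.card D := Subgroup.card_subgroup_dvd_card N
      have hQd : Nat.card (D ⧸ N) ∣ Nat.card D := hcard ▸ Dvd.intro _ rfl
      by_cases c1 : l₁ ∣ Nat.card N
      · by_cases c2 : l₂ ∣ Nat.card N
        · rcases ih _ hNlt N rfl c1 (fun h => d1' (h.trans hNd)) c2 (fun h => d2' (h.trans hNd)) with
            ⟨g, hg⟩ | ⟨T, iT, fT, hT, hT1, hT2⟩
          · exact Or.inl ⟨g, by rw [← hg]; exact Subgroup.orderOf_coe g⟩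
          · exact Or.inr ⟨T, iT, fT, hT, hT1, hT2.trans hNd⟩
        · exact Or.inl (frattini_step h1 h2 hne h21 N c1 d1' d2 c2)
      · by_cases c2 : l₂ ∣ Nat.card N
        · obtain ⟨g, hg⟩ := frattini_step h2 h1 hne.symm h12 N c2 d2' d1 c1
          exact Or.inl ⟨g, by rw [hg, mul_comm]⟩
        · have e1 : l₁ ∣ Nat.card (D ⧸ N) := by
            rw [hcard] at d1
            exact (h1.dvd_mul.1 d1).resolve_right c1
          have e2 : l₂ ∣ Nat.card (D ⧸ N) := by
            rw [hcard] at d2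
            exact (h2.dvd_mul.1 d2).resolve_right c2
          rcases ih _ hQlt (D ⧸ N) rfl e1 (fun h => d1' (h.trans hQd)) e2 (fun h => d2' (h.trans hQd)) with
            ⟨g, hg⟩ | ⟨T, iT, fT, hT, hT1, hT2⟩
          · left
            obtain ⟨x, rfl⟩ := QuotientGroup.mk'_surjective N g
            have h3 : l₁ * l₂ ∣ orderOf x := hg ▸ orderOf_map_dvd (QuotientGroup.mk' N) x
            obtain ⟨k, hk⟩ := h3
            have hk0 : k ≠ 0 := by
              rintro rfl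
              have := orderOf_pos x
              omega
            refine ⟨x ^ k, ?_⟩
            rw [orderOf_pow' x hk0, hk, Nat.gcd_eq_right (Dvd.intro_left _ rfl),
              Nat.mul_div_cancel _ (Nat.pos_of_ne_zero hk0)]
          · exact Or.inr ⟨T, iT, fT, hT, hT1, hT2.trans hQd⟩

/-- Commuting elements of orders `l₁`, `l₂`. -/
theorem exists_orderOf_mul {S : Type*} [Group S] [Finite S] {l₁ l₂ : ℕ} (h1 : l₁.Prime) (h2 : l₂.Prime)
    (hne : l₁ ≠ l₂) {s : S} (hs : orderOf s = l₁) (h : l₂ ∣ Nat.card ↥(centralizer ({s} : Set S))) :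
    ∃ g : S, orderOf g = l₁ * l₂ := by
  have : Fact l₂.Prime := ⟨h2⟩
  obtain ⟨⟨y, hyC⟩, hy⟩ := exists_prime_orderOf_dvd_card' l₂ h
  have hy' : orderOf y = l₂ := by rw [← hy]; exact (Subgroup.orderOf_mk y hyC).symm
  have hc : y * s = s * y := mem_centralizer_singleton_iff.1 hyC
  refine ⟨s * y, ?_⟩
  rw [(show Commute s y from hc.symm).orderOf_mul_eq_mul_orderOf_of_coprime
    (by rw [hs, hy']; exact (Nat.coprime_primes h1 h2).2 hne), hs, hy']

/-- If `l₁` and `l₂` divide the order of the centralizer of `s`, of order `p`. -/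
theorem section_of_centralizer {S : Type u} [Group S] [Finite S] {p l₁ l₂ : ℕ} (hp : p.Prime) (h1 : l₁.Prime)
    (h2 : l₂.Prime) (hne : l₁ ≠ l₂) (h12 : ¬ l₁ ∣ l₂ - 1) (h21 : ¬ l₂ ∣ l₁ - 1)
    (d1' : ¬ l₁ ^ 2 ∣ Nat.card S) (d2' : ¬ l₂ ^ 2 ∣ Nat.card S) (hp1 : p ≠ l₁) (hp2 : p ≠ l₂) {s : S}
    (hs : orderOf s = p) (c1 : l₁ ∣ Nat.card ↥(centralizer ({s} : Set S)))
    (c2 : l₂ ∣ Nat.card ↥(centralizer ({s} : Set S))) :
    (∃ g : S, orderOf g = l₁ * l₂) ∨ ∃ (T : Type u) (_ : Group T) (_ : Finite T), IsSimpleGroup T ∧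
      l₁ * l₂ ∣ Nat.card T ∧ p * Nat.card T ∣ Nat.card S := by
  set C := centralizer ({s} : Set S) with hC
  have hsC : s ∈ C := mem_centralizer_singleton_iff.2 rfl
  set Z : Subgroup C := zpowers ⟨s, hsC⟩ with hZ
  have hZn : Z.Normal := by
    refine ⟨fun n hn g => ?_⟩
    obtain ⟨k, rfl⟩ := hn
    have h3 : g * (⟨s, hsC⟩ : C) * g⁻¹ = ⟨s, hsC⟩ := by
      rw [mul_inv_eq_iff_eq_mul]
      exact Subtype.ext (mem_centralizer_singleton_iff.1 g.2)
    show g * (⟨s, hsC⟩ : C) ^ k * g⁻¹ ∈ Z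
    rw [← conj_zpow, h3]
    exact ⟨k, rfl⟩
  have hZc : Nat.card Z = p := by
    rw [hZ, Nat.card_zpowers, Subgroup.orderOf_mk, hs]
  have hcard : Nat.card C = Nat.card (C ⧸ Z) * p := by
    rw [← hZc]
    exact Z.card_eq_card_quotient_mul_card_subgroup
  have hCd : Nat.card C ∣ Nat.card S := Subgroup.card_subgroup_dvd_card C
  have hQd : Nat.card (C ⧸ Z) ∣ Nat.card S := (hcard ▸ Dvd.intro _ rfl : Nat.card (C ⧸ Z) ∣ Nat.card C).trans hCd
  have e1 : l₁ ∣ Nat.card (C ⧸ Z) := by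
    rw [hcard] at c1
    exact (h1.dvd_mul.1 c1).resolve_right fun h => hp1 ((Nat.prime_dvd_prime_iff_eq h1 hp).1 h).symm
  have e2 : l₂ ∣ Nat.card (C ⧸ Z) := by
    rw [hcard] at c2
    exact (h2.dvd_mul.1 c2).resolve_right fun h => hp2 ((Nat.prime_dvd_prime_iff_eq h2 hp).1 h).symm
  rcases exists_or_section h1 h2 hne h12 h21 _ (C ⧸ Z) rfl e1 (fun h => d1' (h.trans hQd)) e2
    (fun h => d2' (h.trans hQd)) with ⟨g, hg⟩ | ⟨T, iT, fT, hT, hT1, hT2⟩
  · left
    obtain ⟨x, rfl⟩ := QuotientGroup.mk'_surjective Z g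
    have h3 : l₁ * l₂ ∣ orderOf x := hg ▸ orderOf_map_dvd (QuotientGroup.mk' Z) x
    obtain ⟨k, hk⟩ := h3
    have hk0 : k ≠ 0 := by
      rintro rfl
      have := orderOf_pos x
      omega
    refine ⟨((x ^ k : C) : S), ?_⟩
    rw [Subgroup.orderOf_coe, orderOf_pow' x hk0, hk, Nat.gcd_eq_right (Dvd.intro_left _ rfl),
      Nat.mul_div_cancel _ (Nat.pos_of_ne_zero hk0)]
  · right
    refine ⟨T, iT, fT, hT, hT1, ?_⟩
    have h3 : p * Nat.card T ∣ Nat.card C := by
      rw [hcard, mul_comm]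
      exact Nat.mul_dvd_mul_right hT2 p
    exact h3.trans hCd

/-- **The pair criterion.** -/
theorem row_of_pair {S : Type u} [Group S] [Finite S] {p : ℕ} [hp : Fact p.Prime] (hZ : center S = ⊥)
    (hout : ∀ a : MulAut S, orderOf a = p → ∃ s : S, a = MulAut.conj s) {l₁ l₂ : ℕ} (h1 : l₁.Prime)
    (h2 : l₂.Prime) (hne : l₁ ≠ l₂) (h12 : ¬ l₁ ∣ l₂ - 1) (h21 : ¬ l₂ ∣ l₁ - 1)
    (d1 : l₁ ∣ Nat.card S) (d1' : ¬ l₁ ^ 2 ∣ Nat.card S) (d2 : l₂ ∣ Nat.card S) (d2' : ¬ l₂ ^ 2 ∣ Nat.card S)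
    (hnc : ∀ g : S, orderOf g ≠ l₁ * l₂)
    (hsec : p ∣ Nat.card S → p ≠ l₁ → p ≠ l₂ → ∀ (T : Type u) [Group T] [Finite T], IsSimpleGroup T →
      l₁ * l₂ ∣ Nat.card T → p * Nat.card T ∣ Nat.card S → False)
    (hord : p ∣ Nat.card S → p ≠ l₁ → p ≠ l₂ → ∀ k : ℕ, k ≠ 0 → p ^ k ∣ Nat.card S →
      ¬ l₁ ∣ p ^ k - 1 ∧ ¬ l₂ ∣ p ^ k - 1) : Row p S := by
  refine SporCrit.row_of_primes hZ hout ?_
  intro s hs
  have hpS : p ∣ Nat.card S := hs ▸ orderOf_dvd_natCard s
  by_cases hp1 : p = l₁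
  · refine ⟨l₂, h2, d2, fun h => hne (hp1.symm.trans h.symm), ?_, ?_⟩
    · intro k hk hd
      have hk1 : k = 1 := by
        by_contra hk1
        rw [hp1] at hd
        exact d1' ((pow_dvd_pow l₁ (by omega : 2 ≤ k)).trans hd)
      rw [hk1, pow_one, hp1]
      exact h21
    · intro h
      obtain ⟨g, hg⟩ := exists_orderOf_mul h1 h2 hne (hs.trans hp1) h
      exact hnc g hg
  · by_cases hp2 : p = l₂
    · refine ⟨l₁, h1, d1, fun h => hp1 h.symm, ?_, ?_⟩
      · intro k hk hd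
        have hk1 : k = 1 := by
          by_contra hk1
          rw [hp2] at hd
          exact d2' ((pow_dvd_pow l₂ (by omega : 2 ≤ k)).trans hd)
        rw [hk1, pow_one, hp2]
        exact h12
      · intro h
        obtain ⟨g, hg⟩ := exists_orderOf_mul h2 h1 hne.symm (hs.trans hp2) h
        exact hnc g (hg.trans (mul_comm _ _))
    · by_cases c1 : l₁ ∣ Nat.card ↥(centralizer ({s} : Set S))
      · by_cases c2 : l₂ ∣ Nat.card ↥(centralizer ({s} : Set S))
        · exfalso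
          rcases section_of_centralizer hp.1 h1 h2 hne h12 h21 d1' d2' hp1 hp2 hs c1 c2 with
            ⟨g, hg⟩ | ⟨T, iT, fT, hT, hT1, hT2⟩
          · exact hnc g hg
          · exact hsec hpS hp1 hp2 T hT hT1 hT2
        · exact ⟨l₂, h2, d2, fun h => hp2 h.symm, fun k hk hd => (hord hpS hp1 hp2 k hk hd).2, c2⟩
      · exact ⟨l₁, h1, d1, fun h => hp1 h.symm, fun k hk hd => (hord hpS hp1 hp2 k hk hd).1, c1⟩

end Cfsg.Agent.H966.Pair
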