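import Cfsg.Agent.OrdDiv.Main
import Cfsg.Agent.H966.Pair

/-!
# The pair criterion for the sporadic rows of S4329: the numerical conditions (helper966)

`pairOK l N a b p` : the boolean test of the numerical conditions of `Pair.row_of_pair` for a group of order `N` (with
factorization `l`), primes `a`, `b`, and the prime `p`; `pairAll` : for all odd `p` different from `a`, `b`.
-/

set_option autoImplicit false

namespace Cfsg.Agent.H966.PairNum

open Subgroup Cfsg Cfsg.Agent.H568 Cfsg.Agent.OrdDiv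

universe u

/-- the numerical conditions for `p` -/
def pairOK (l : List (ℕ × ℕ)) (N a b p : ℕ) : Bool :=
  ((cands l N).filter fun g => ordN g % (a * b) == 0 && N % (p * ordN g) == 0).isEmpty &&
    l.all fun x => x.1 != p || (List.range x.2).all fun k => (p ^ (k + 1) - 1) % a != 0 && (p ^ (k + 1) - 1) % b != 0

/-- the numerical conditions for all odd `p` -/
def pairAll (l : List (ℕ × ℕ)) (N a b : ℕ) : Bool :=
  l.all fun x => x.1 == 2 || x.1 == a || x.1 == b || pairOK l N a b x.1

theorem dvd_prodl {l : List (ℕ × ℕ)} {a k : ℕ} (h : (a, k) ∈ l) : a ^ k ∣ prodl l :=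
  List.dvd_prod (List.mem_map.2 ⟨_, h, rfl⟩)

/-- **The pair criterion with the numerical test.** -/
theorem row_of_pairOK (hK : ∀ (T : Type u) [Group T] [Finite T] [IsSimpleGroup T], IsKnownSimple' T)
    (T : OrderTable.{u}) {S : Type u} [Group S] [Finite S] {p : ℕ} [hp : Fact p.Prime] (hZ : center S = ⊥)
    (hout : ∀ a : MulAut S, orderOf a = p → ∃ s : S, a = MulAut.conj s) {l : List (ℕ × ℕ)} {N : ℕ}
    (hv : valid l N = true) (hN : Nat.card S = N) {a b : ℕ} (ha : a.Prime) (hb : b.Prime) (hne : a ≠ b)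
    (h12 : ¬ a ∣ b - 1) (h21 : ¬ b ∣ a - 1) (hal : (a, 1) ∈ l) (hbl : (b, 1) ∈ l)
    (hnc : ∀ g : S, orderOf g ≠ a * b)
    (hok : p ∣ N → p ≠ a → p ≠ b → pairOK l N a b p = true) : Row p S := by
  have hNl : prodl l = N := valid_prod hv
  refine Pair.row_of_pair hZ hout ha hb hne h12 h21 ?_ ?_ ?_ ?_ hnc ?_ ?_
  · rw [hN, ← hNl, ← pow_one a]; exact dvd_prodl hal
  · rw [hN]; exact valid_exact hv _ hal
  · rw [hN, ← hNl, ← pow_one b]; exact dvd_prodl hbl
  · rw [hN]; exact valid_exact hv _ hbl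
  · intro hpd hpa hpb X iX fX hX h1 h2
    rw [hN] at hpd h2
    have h3 := hok hpd hpa hpb
    unfold pairOK at h3
    rw [Bool.and_eq_true] at h3
    have h4 := h3.1
    have hna : ¬ ∀ x y : X, x * y = y * x := by
      intro hcomm
      have h5 : (Nat.card X).Prime := by
        have : IsMulCommutative X := ⟨⟨hcomm⟩⟩
        let _ : CommGroup X := { (inferInstance : Group X) with mul_comm := hcomm }
        exact IsSimpleGroup.prime_card
      have h6 : a ∣ Nat.card X := (Dvd.intro _ rfl).trans h1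
      have h7 : b ∣ Nat.card X := (Dvd.intro_left _ rfl).trans h1
      exact hne (((Nat.prime_dvd_prime_iff_eq ha h5).1 h6).trans ((Nat.prime_dvd_prime_iff_eq hb h5).1 h7).symm)
    obtain ⟨g, hg, -⟩ := exists_real_filter T (hK X) hna hv ((Dvd.intro_left _ rfl).trans h2)
      (fun c => c % (a * b) == 0 && N % (p * c) == 0) (by
        rw [Bool.and_eq_true, beq_iff_eq, beq_iff_eq]
        exact ⟨Nat.mod_eq_zero_of_dvd h1, Nat.mod_eq_zero_of_dvd h2⟩)
    rw [List.isEmpty_iff] at h4
    rw [h4] at hg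
    exact absurd hg List.not_mem_nil
  · intro hpd hpa hpb k hk hd
    rw [hN] at hpd hd
    have h3 := hok hpd hpa hpb
    unfold pairOK at h3
    rw [Bool.and_eq_true, List.all_eq_true] at h3
    obtain ⟨e, he, hke⟩ := exists_pair hv hp.1 (Nat.pos_of_ne_zero hk) hd
    have h4 := h3.2 _ he
    rw [Bool.or_eq_true, bne_iff_ne, List.all_eq_true] at h4
    have h5 := h4.resolve_left (by simp) (k - 1) (List.mem_range.2 (by show k - 1 < e; omega))
    rw [Nat.sub_add_cancel (Nat.pos_of_ne_zero hk), Bool.and_eq_true, bne_iff_ne, bne_iff_ne] at h5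
    exact ⟨fun h => h5.1 (Nat.mod_eq_zero_of_dvd h), fun h => h5.2 (Nat.mod_eq_zero_of_dvd h)⟩

/-- the conditions for `p` from the conditions for all primes -/
theorem pairOK_of_all {l : List (ℕ × ℕ)} {N a b p : ℕ} (hv : valid l N = true) (h : pairAll l N a b = true)
    (hp : p.Prime) (hp2 : p ≠ 2) (hd : p ∣ N) (ha : p ≠ a) (hb : p ≠ b) : pairOK l N a b p = true := by
  obtain ⟨e, he, -⟩ := exists_pair hv hp (j := 1) le_rfl (by rwa [pow_one])
  unfold pairAll at h
  rw [List.all_eq_true] at h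
  have h1 := h _ he
  simp only [Bool.or_eq_true, beq_iff_eq] at h1
  rcases h1 with ((h1 | h1) | h1) | h1
  · exact absurd h1 hp2
  · exact absurd h1 ha
  · exact absurd h1 hb
  · exact h1

/-- **The pair criterion for all odd `p`.** -/
theorem row_of_pairAll (hK : ∀ (T : Type u) [Group T] [Finite T] [IsSimpleGroup T], IsKnownSimple' T)
    (T : OrderTable.{u}) {S : Type u} [Group S] [Finite S] {p : ℕ} [hp : Fact p.Prime] (hp2 : p ≠ 2)
    (hZ : center S = ⊥)
    (hout : ∀ a : MulAut S, orderOf a = p → ∃ s : S, a = MulAut.conj s) {l : List (ℕ × ℕ)} {N : ℕ}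
    (hv : valid l N = true) (hN : Nat.card S = N) {a b : ℕ} (ha : a.Prime) (hb : b.Prime) (hne : a ≠ b)
    (h12 : ¬ a ∣ b - 1) (h21 : ¬ b ∣ a - 1) (hal : (a, 1) ∈ l) (hbl : (b, 1) ∈ l)
    (hnc : ∀ g : S, orderOf g ≠ a * b) (hok : pairAll l N a b = true) : Row p S :=
  row_of_pairOK hK T hZ hout hv hN ha hb hne h12 h21 hal hbl hnc fun hd hpa hpb =>
    pairOK_of_all hv hok hp.1 hp2 hd hpa hpb

/-- the Monster, `47` and `59` -/
theorem m_valid : valid [(2,46),(3,20),(5,9),(7,6),(11,2),(13,3),(17,1),(19,1),(23,1),(29,1),(31,1),(41,1),(47,1),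
    (59,1),(71,1)] 808017424794512875886459904961710757005754368000000000 = true := by decide +kernel

theorem m_pair : pairAll [(2,46),(3,20),(5,9),(7,6),(11,2),(13,3),(17,1),(19,1),(23,1),(29,1),(31,1),(41,1),(47,1),
    (59,1),(71,1)] 808017424794512875886459904961710757005754368000000000 47 59 = true := by decide +kernel

/-- the Baby Monster, `19` and `47` -/
theorem b_valid : valid [(2,41),(3,13),(5,6),(7,2),(11,1),(13,1),(17,1),(19,1),(23,1),(31,1),(47,1)]
    4154781481226426191177580544000000 = true := by decide +kernel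

theorem b_pair : pairAll [(2,41),(3,13),(5,6),(7,2),(11,1),(13,1),(17,1),(19,1),(23,1),(31,1),(47,1)]
    4154781481226426191177580544000000 19 47 = true := by decide +kernel

end Cfsg.Agent.H966.PairNum
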