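import Mathlib
import Cfsg.Prelude.Def_LieTypeDatum
import Cfsg.Agent.H202.Descent
import Cfsg.Agent.H202.PspSplit
import Cfsg.Agent.H198.Carriers

/-!
# The centralizer of a standard field automorphism of `PΩ(Q)` in an image of a group of similarities (helper966)

`Q : QuadraticForm F (ι → F)`, `Q₀ : QuadraticForm F₀ (ι → F₀)`, `j : F₀ → F` with `Q (j v) = j (Q₀ v)`; the range of `j` is
the fixed field of `σ`; `Q (σ v) = σ (Q v)`.

* `quad_ext` : quadratic forms agreeing on `eᵢ`, `eᵢ + eₖ` are equal;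
* `mapSim : Sim Q₀ →* Sim Q`, `map_mem_iff`;
* `fld σ : Gam Q`; `cent_eq` : `H.map (S hG) ⊓ C(Phi (fld σ)) = H₀.map (S hG ∘ mapSim)` if `H` contains the scalars, `H₀` is the
  preimage of `H`; `cent_equiv` : this is isomorphic to `H₀.map (S hG₀)`.
-/

set_option autoImplicit false
set_option linter.unusedSectionVars false

namespace Cfsg.Agent.H966.OrthCent

open Cfsg Matrix QuadraticMap
open Cfsg.Agent.LieClassical.OrthCore Cfsg.Agent.LieClassical.OrthTrans
  Cfsg.Agent.ClassicalGeometry.OrthSemi Cfsg.Agent.H198.OrthFrame Cfsg.Agent.H198.Carriers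
  Cfsg.Agent.H202.Descent

universe u v

variable {ι : Type} [Fintype ι] [DecidableEq ι] {F : Type u} [Field F] {F₀ : Type v} [Field F₀]

theorem quad_ext {Q₁ Q₂ : QuadraticForm F (ι → F)}
    (h1 : ∀ i, Q₁ (Pi.single i 1) = Q₂ (Pi.single i 1))
    (h2 : ∀ i k, Q₁ (Pi.single i 1 + Pi.single k 1) = Q₂ (Pi.single i 1 + Pi.single k 1)) :
    Q₁ = Q₂ := by
  have hp : polarBilin Q₁ = polarBilin Q₂ := by
    apply LinearMap.ext_basis (Pi.basisFun F ι) (Pi.basisFun F ι)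
    intro i k
    rw [Pi.basisFun_apply, Pi.basisFun_apply, polarBilin_apply_apply, polarBilin_apply_apply,
      polar, polar, h1, h1, h2]
  ext v
  have key : ∀ s : Finset ι, Q₁ (∑ i ∈ s, v i • Pi.single i 1) =
      Q₂ (∑ i ∈ s, v i • Pi.single i 1) := by
    intro s
    induction s using Finset.induction_on with
    | empty => rw [Finset.sum_empty, QuadraticMap.map_zero, QuadraticMap.map_zero]
    | insert i s hi ih =>
      rw [Finset.sum_insert hi, QuadraticMap.map_add Q₁, QuadraticMap.map_add Q₂,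
        QuadraticMap.map_smul, QuadraticMap.map_smul, ih, h1, ← polarBilin_apply_apply,
        ← polarBilin_apply_apply, hp]
  have := key Finset.univ
  rwa [← pi_eq_sum_univ' v] at this

variable {Q : QuadraticForm F (ι → F)} {Q₀ : QuadraticForm F₀ (ι → F₀)} {j : F₀ →+* F}

/-- A matrix is a similarity iff it is one on `eᵢ`, `eᵢ + eₖ`. -/
theorem sim_iff_single {M : Matrix ι ι F} {c : F} :
    (∀ v, Q (M *ᵥ v) = c * Q v) ↔
      (∀ i, Q (M *ᵥ Pi.single i 1) = c * Q (Pi.single i 1)) ∧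
      ∀ i k, Q (M *ᵥ (Pi.single i 1 + Pi.single k 1)) = c * Q (Pi.single i 1 + Pi.single k 1) := by
  constructor
  · intro h
    exact ⟨fun i => h _, fun i k => h _⟩
  · rintro ⟨h1, h2⟩
    have h : Q.comp (M.mulVecLin) = c • Q := by
      apply quad_ext
      · intro i
        rw [QuadraticMap.comp_apply, Matrix.mulVecLin_apply, _root_.smul_apply, smul_eq_mul]
        exact h1 i
      · intro i k
        rw [QuadraticMap.comp_apply, Matrix.mulVecLin_apply, _root_.smul_apply, smul_eq_mul]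
        exact h2 i k
    intro v
    have h3 := congrArg (fun q : QuadraticForm F (ι → F) => q v) h
    exact h3

theorem map_mulVec_hom (j : F₀ →+* F) (M : Matrix ι ι F₀) (v : ι → F₀) :
    (M.map j) *ᵥ (fun i => j (v i)) = fun i => j ((M *ᵥ v) i) := by
  funext i
  simp [Matrix.mulVec, dotProduct, map_sum]

theorem single_map (j : F₀ →+* F) (i : ι) :
    (fun k => j ((Pi.single i 1 : ι → F₀) k)) = (Pi.single i 1 : ι → F) := by
  funext k
  by_cases hk : k = i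
  · subst hk
    simp
  · simp [Pi.single_eq_of_ne hk]

theorem single_add_map (j : F₀ →+* F) (i l : ι) :
    (fun k => j ((Pi.single i 1 + Pi.single l 1 : ι → F₀) k)) =
      (Pi.single i 1 + Pi.single l 1 : ι → F) := by
  rw [← single_map j i, ← single_map j l]
  funext k
  simp

/-- Similarities over `F₀` and over `F`. -/
theorem map_mem_iff (hQ : ∀ v : ι → F₀, Q (fun i => j (v i)) = j (Q₀ v)) (hne : ∃ v, Q₀ v ≠ 0)
    (g : GL ι F₀) : Matrix.GeneralLinearGroup.map j g ∈ Sim Q ↔ g ∈ Sim Q₀ := by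
  have hval : ∀ v : ι → F₀, Q (((Matrix.GeneralLinearGroup.map j g : GL ι F) : Matrix ι ι F) *ᵥ
      fun i => j (v i)) = j (Q₀ ((g : Matrix ι ι F₀) *ᵥ v)) := by
    intro v
    change Q (((g : Matrix ι ι F₀).map j) *ᵥ _) = _
    rw [map_mulVec_hom, hQ]
  constructor
  · rintro ⟨c, hc⟩
    obtain ⟨v, hv⟩ := hne
    have h1 : j (Q₀ ((g : Matrix ι ι F₀) *ᵥ v)) = c * j (Q₀ v) := by
      rw [← hval, ← hQ]
      exact hc _
    have hd : (c : F) = j (Q₀ ((g : Matrix ι ι F₀) *ᵥ v) / Q₀ v) := by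
      rw [map_div₀, h1, mul_div_cancel_right₀]
      intro h
      exact hv (j.injective (h.trans (map_zero j).symm))
    have hd0 : Q₀ ((g : Matrix ι ι F₀) *ᵥ v) / Q₀ v ≠ 0 := by
      intro h
      rw [h, map_zero] at hd
      exact c.ne_zero hd
    refine ⟨Units.mk0 _ hd0, fun w => ?_⟩
    apply j.injective
    rw [← hval, Units.val_mk0, map_mul, ← hd, ← hQ]
    exact hc _
  · rintro ⟨c, hc⟩
    refine ⟨Units.map (j : F₀ →* F) c, ?_⟩
    apply sim_iff_single.2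
    constructor
    · intro i
      rw [← single_map j, hval, hc, map_mul, hQ]
      rfl
    · intro i k
      rw [← single_add_map j, hval, hc, map_mul, hQ]
      rfl

/-- `Sim(Q₀) → Sim(Q)` -/
def mapSim (hQ : ∀ v : ι → F₀, Q (fun i => j (v i)) = j (Q₀ v)) (hne : ∃ v, Q₀ v ≠ 0) :
    Sim Q₀ →* Sim Q where
  toFun g := ⟨Matrix.GeneralLinearGroup.map j (g : GL ι F₀), (map_mem_iff hQ hne _).2 g.2⟩
  map_one' := Subtype.ext (map_one _)
  map_mul' _ _ := Subtype.ext (map_mul _ _ _)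

theorem coe_mapSim (hQ : ∀ v : ι → F₀, Q (fun i => j (v i)) = j (Q₀ v)) (hne : ∃ v, Q₀ v ≠ 0)
    (g : Sim Q₀) : ((mapSim hQ hne g : GL ι F) : Matrix ι ι F) =
      ((g : GL ι F₀) : Matrix ι ι F₀).map j := rfl

/-- The standard field automorphism. -/
def fld (Q : QuadraticForm F (ι → F)) (σ : F ≃+* F)
    (hσ : ∀ v : ι → F, Q (fun i => σ (v i)) = σ (Q v)) : Gam Q :=
  ⟨perm 1 σ, perm_mem_Gam ⟨1, fun v => by rw [Units.val_one, one_mulVec, Units.val_one, one_mul, hσ]⟩⟩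

theorem fld_apply {σ : F ≃+* F} (hσ : ∀ v : ι → F, Q (fun i => σ (v i)) = σ (Q v)) (v : ι → F) :
    (fld Q σ hσ).1 v = fun i => σ (v i) := by
  change (((1 : GL ι F)) : Matrix ι ι F) *ᵥ _ = _
  rw [Units.val_one, one_mulVec]

/-- The kernels. -/
theorem map_eq_one_iff (hG : Good Q) (hG₀ : Good Q₀)
    (hQ : ∀ v : ι → F₀, Q (fun i => j (v i)) = j (Q₀ v)) (hne : ∃ v, Q₀ v ≠ 0) (g : Sim Q₀) :
    S hG (mapSim hQ hne g) = 1 ↔ S hG₀ g = 1 := by
  rw [S_eq_one_iff, S_eq_one_iff, coe_mapSim]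
  obtain ⟨v, hv⟩ := hne
  obtain ⟨i0⟩ : Nonempty ι := by
    by_contra h
    rw [not_nonempty_iff] at h
    exact hv (by rw [Subsingleton.elim v 0, QuadraticMap.map_zero])
  constructor
  · rintro ⟨a, ha⟩
    have h1 := fun i k => congrFun (congrFun ha i) k
    simp only [Matrix.map_apply, Matrix.smul_apply, smul_eq_mul] at h1
    have ha0 : j ((((g : GL ι F₀) : Matrix ι ι F₀)) i0 i0) = a := by
      rw [h1, Matrix.one_apply_eq, mul_one]
    have hne : (((g : GL ι F₀) : Matrix ι ι F₀)) i0 i0 ≠ 0 := by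
      intro h2
      rw [h2, map_zero] at ha0
      exact a.ne_zero ha0.symm
    refine ⟨Units.mk0 _ hne, ?_⟩
    ext i k
    apply j.injective
    rw [h1, Matrix.smul_apply, smul_eq_mul, map_mul, Units.val_mk0, ha0]
    congr 1
    rw [Matrix.one_apply, Matrix.one_apply]
    split_ifs
    · exact (map_one j).symm
    · exact (map_zero j).symm
  · rintro ⟨c, hc⟩
    refine ⟨Units.map (j : F₀ →* F) c, ?_⟩
    rw [hc]
    ext i k
    rw [Matrix.map_apply, Matrix.smul_apply, Matrix.smul_apply, smul_eq_mul, smul_eq_mul, map_mul,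
      Matrix.one_apply, Matrix.one_apply]
    split_ifs
    · rw [map_one]; rfl
    · rw [map_zero, mul_zero, mul_zero]

/-- Scalar matrices are similarities. -/
theorem scg_mem (Q : QuadraticForm F (ι → F)) (e : Fˣ) : scg e ∈ Sim Q := by
  refine ⟨e * e, fun v => ?_⟩
  rw [coe_scg, Matrix.smul_mulVec, one_mulVec, QuadraticMap.map_smul, Units.val_mul, smul_eq_mul]

theorem S_scg (hG : Good Q) (e : Fˣ) : S hG ⟨scg e, scg_mem Q e⟩ = 1 := by
  rw [S_eq_one_iff]
  exact ⟨e, rfl⟩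

/-- `S g` commutes with the field automorphism iff `σ(g)` is a multiple of `g`. -/
theorem comm_iff (hG : Good Q) {σ : F ≃+* F} (hσ : ∀ v : ι → F, Q (fun i => σ (v i)) = σ (Q v))
    (g : Sim Q) : S hG g * Phi hG (fld Q σ hσ) = Phi hG (fld Q σ hσ) * S hG g ↔
      ∃ c : Fˣ, ((g : GL ι F) : Matrix ι ι F).map σ = (c : F) • ((g : GL ι F) : Matrix ι ι F) := by
  have h0 : S hG g * Phi hG (fld Q σ hσ) = Phi hG (fld Q σ hσ) * S hG g ↔
      Phi hG (fld Q σ hσ * simGam Q g * (fld Q σ hσ)⁻¹ * (simGam Q g)⁻¹) = 1 := by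
    have e : Phi hG (fld Q σ hσ * simGam Q g * (fld Q σ hσ)⁻¹ * (simGam Q g)⁻¹) =
        (Phi hG (fld Q σ hσ) * S hG g) * (S hG g * Phi hG (fld Q σ hσ))⁻¹ := by
      rw [map_mul, map_mul, map_mul, map_inv, map_inv, _root_.mul_inv_rev, ← mul_assoc]
      rfl
    rw [e, mul_inv_eq_one, eq_comm]
  rw [h0, Phi_eq_one_iff]
  constructor
  · rintro ⟨a, ha, h⟩
    refine ⟨Units.mk0 a ha, ?_⟩
    rw [← Matrix.mulVec_injective.eq_iff]
    funext w
    obtain ⟨v, rfl⟩ : ∃ v : ι → F, (fun i => σ (v i)) = w :=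
      ⟨fun i => σ.symm (w i), funext fun i => σ.apply_symm_apply _⟩
    have h1 : (fld Q σ hσ * simGam Q g * (fld Q σ hσ)⁻¹ * (simGam Q g)⁻¹) *
        (simGam Q g * fld Q σ hσ) = fld Q σ hσ * simGam Q g := by group
    have h2 := congrArg (fun k : Gam Q => k.1 v) h1
    change (fld Q σ hσ * simGam Q g * (fld Q σ hσ)⁻¹ * (simGam Q g)⁻¹).1
      ((simGam Q g).1 ((fld Q σ hσ).1 v)) = (fld Q σ hσ).1 ((simGam Q g).1 v) at h2
    rw [h, fld_apply, fld_apply, simGam_apply, simGam_apply] at h2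
    rw [Matrix.smul_mulVec, Units.val_mk0, h2]
    exact (Cfsg.Agent.H202.Descent.map_mulVec σ _ v).symm
  · rintro ⟨c, hc⟩
    refine ⟨c, c.ne_zero, fun w => ?_⟩
    obtain ⟨v, rfl⟩ : ∃ v : ι → F, (simGam Q g).1 ((fld Q σ hσ).1 v) = w :=
      ⟨(fld Q σ hσ).1⁻¹ ((simGam Q g).1⁻¹ w), by rw [apply_inv, apply_inv]⟩
    have h1 : (fld Q σ hσ * simGam Q g * (fld Q σ hσ)⁻¹ * (simGam Q g)⁻¹) *
        (simGam Q g * fld Q σ hσ) = fld Q σ hσ * simGam Q g := by group
    have h2 := congrArg (fun k : Gam Q => k.1 v) h1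
    change (fld Q σ hσ * simGam Q g * (fld Q σ hσ)⁻¹ * (simGam Q g)⁻¹).1
      ((simGam Q g).1 ((fld Q σ hσ).1 v)) = (fld Q σ hσ).1 ((simGam Q g).1 v) at h2
    rw [h2, fld_apply, fld_apply, simGam_apply, simGam_apply, Cfsg.Agent.H202.Descent.map_mulVec, hc,
      Matrix.smul_mulVec]

/-- **The centralizer of the field automorphism.** -/
theorem cent_eq (hG : Good Q) (hQ : ∀ v : ι → F₀, Q (fun i => j (v i)) = j (Q₀ v))
    (hne : ∃ v, Q₀ v ≠ 0) {σ : F ≃+* F} (hσ : ∀ v : ι → F, Q (fun i => σ (v i)) = σ (Q v))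
    (hj : ∀ a, σ a = a ↔ ∃ b, j b = a) {H : Subgroup (Sim Q)} {H₀ : Subgroup (Sim Q₀)}
    (hsc : ∀ e : Fˣ, (⟨scg e, scg_mem Q e⟩ : Sim Q) ∈ H) (hH : ∀ g, mapSim hQ hne g ∈ H ↔ g ∈ H₀) :
    H.map (S hG) ⊓ Subgroup.centralizer {Phi hG (fld Q σ hσ)} =
      H₀.map ((S hG).comp (mapSim hQ hne)) := by
  obtain ⟨v0, hv0⟩ := hne
  have : Nonempty ι := by
    by_contra h
    rw [not_nonempty_iff] at h
    exact hv0 (by rw [Subsingleton.elim v0 0, QuadraticMap.map_zero])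
  ext β
  rw [Subgroup.mem_inf, Subgroup.mem_centralizer_singleton_iff]
  constructor
  · rintro ⟨⟨g, hg, rfl⟩, hc⟩
    obtain ⟨c, hc⟩ := (comm_iff hG hσ g).1 hc
    obtain ⟨e, he⟩ := exists_fixed_multiple hc
    obtain ⟨M, hM⟩ := exists_descend_gl hj he
    have hMs : Matrix.GeneralLinearGroup.map j M ∈ Sim Q := by
      rw [hM]
      exact mul_mem (scg_mem Q e) g.2
    have hMs0 := (map_mem_iff hQ ⟨v0, hv0⟩ M).1 hMs
    have h6 : mapSim hQ ⟨v0, hv0⟩ ⟨M, hMs0⟩ = ⟨scg e, scg_mem Q e⟩ * g := Subtype.ext hM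
    refine ⟨⟨M, hMs0⟩, (hH _).1 ?_, ?_⟩
    · rw [h6]
      exact mul_mem (hsc e) hg
    · rw [MonoidHom.comp_apply, h6, map_mul, S_scg, one_mul]
  · rintro ⟨g, hg, rfl⟩
    refine ⟨⟨mapSim hQ _ g, (hH g).2 hg, rfl⟩, (comm_iff hG hσ _).2 ⟨1, ?_⟩⟩
    rw [Units.val_one, one_smul, coe_mapSim]
    ext i k
    rw [Matrix.map_apply, Matrix.map_apply]
    exact (hj _).2 ⟨_, rfl⟩

theorem cent_equiv (hG : Good Q) (hG₀ : Good Q₀)
    (hQ : ∀ v : ι → F₀, Q (fun i => j (v i)) = j (Q₀ v))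
    (hne : ∃ v, Q₀ v ≠ 0) {σ : F ≃+* F} (hσ : ∀ v : ι → F, Q (fun i => σ (v i)) = σ (Q v))
    (hj : ∀ a, σ a = a ↔ ∃ b, j b = a) {H : Subgroup (Sim Q)} {H₀ : Subgroup (Sim Q₀)}
    (hsc : ∀ e : Fˣ, (⟨scg e, scg_mem Q e⟩ : Sim Q) ∈ H) (hH : ∀ g, mapSim hQ hne g ∈ H ↔ g ∈ H₀) :
    Nonempty (↥(H.map (S hG) ⊓ Subgroup.centralizer {Phi hG (fld Q σ hσ)}) ≃*
      ↥(H₀.map (S hG₀))) := by
  rw [cent_eq hG hQ hne hσ hj hsc hH]
  -- both are quotients of `H₀` by the same kernel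
  have h1 : H₀.map ((S hG).comp (mapSim hQ hne)) =
      (((S hG).comp (mapSim hQ hne)).comp H₀.subtype).range := by
    rw [MonoidHom.range_comp, Subgroup.range_subtype]
  have h2 : H₀.map (S hG₀) = ((S hG₀).comp H₀.subtype).range := by
    rw [MonoidHom.range_comp, Subgroup.range_subtype]
  rw [h1, h2]
  have hk : (((S hG).comp (mapSim hQ hne)).comp H₀.subtype).ker =
      ((S hG₀).comp H₀.subtype).ker := by
    ext g
    rw [MonoidHom.mem_ker, MonoidHom.mem_ker]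
    exact map_eq_one_iff hG hG₀ hQ hne g.1
  exact ⟨((QuotientGroup.quotientKerEquivRange _).symm.trans
    (QuotientGroup.quotientMulEquivOfEq hk)).trans (QuotientGroup.quotientKerEquivRange _)⟩

/-! ### The standard field automorphisms -/

theorem isFieldAut_iff (hG : Good Q) {σ : F ≃+* F}
    (hσ : ∀ v : ι → F, Q (fun i => σ (v i)) = σ (Q v)) (φ : MulAut (POmega F ⇑Q)) :
    IsFieldAutPOmegaOf (⇑Q) σ φ ↔ φ = Phi hG (fld Q σ hσ) := by
  have h1 : IsSemisimilarityPair (⇑Q) (1 : GL ι F) σ :=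
    ⟨1, fun v => by rw [Units.val_one, one_mulVec, Units.val_one, one_mul, hσ]⟩
  have h2 : fld Q σ hσ = ⟨perm 1 σ, perm_mem_Gam h1⟩ := rfl
  rw [h2, ← induced_iff hG h1]
  have e : ∀ s s' : Matrix ι ι F,
      (s' = ((1 : GL ι F) : Matrix ι ι F) * s.map σ * (((1 : GL ι F)⁻¹ : GL ι F) : Matrix ι ι F)) =
        (s' = s.map σ) := by
    intro s s'
    rw [inv_one, Units.val_one, one_mul, mul_one]
  constructor
  · intro h s s' hs
    rw [e] at hs
    exact h s s' hs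
  · intro h s s' hs
    refine h s s' ?_
    rw [e]
    exact hs

theorem fld_pow_apply {σ : F ≃+* F} (hσ : ∀ v : ι → F, Q (fun i => σ (v i)) = σ (Q v)) (k : ℕ)
    (v : ι → F) : ((fld Q σ hσ) ^ k).1 v = fun i => (σ ^ k) (v i) := by
  induction k generalizing v with
  | zero => rfl
  | succ k ih =>
    rw [pow_succ, pow_succ]
    change ((fld Q σ hσ) ^ k).1 ((fld Q σ hσ).1 v) = _
    rw [fld_apply, ih]
    rfl

theorem nonempty_of_good (hG : Good Q) : Nonempty ι := by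
  have := hG.dim
  rw [Module.finrank_fintype_fun_eq_card] at this
  exact Fintype.card_pos_iff.1 (by omega)

theorem pow_eq_one_of (hG : Good Q) {σ : F ≃+* F}
    (hσ : ∀ v : ι → F, Q (fun i => σ (v i)) = σ (Q v)) {k : ℕ}
    (h : Phi hG (fld Q σ hσ) ^ k = 1) : σ ^ k = 1 := by
  rw [← map_pow, Phi_eq_one_iff] at h
  obtain ⟨a, ha, h⟩ := h
  obtain ⟨i⟩ := nonempty_of_good hG
  have h1 : a = 1 := by
    have h2 := congrFun (h (Pi.single i 1)) i
    rw [fld_pow_apply] at h2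
    simp only [Pi.single_eq_same, map_one, Pi.smul_apply, smul_eq_mul, mul_one] at h2
    exact h2.symm
  ext b
  have h2 := congrFun (h (Pi.single i b)) i
  rw [fld_pow_apply, h1, one_smul] at h2
  simp only [Pi.single_eq_same] at h2
  exact h2

theorem orderOf_of_prime (hG : Good Q) {σ : F ≃+* F}
    (hσ : ∀ v : ι → F, Q (fun i => σ (v i)) = σ (Q v)) (hσ1 : σ ≠ RingEquiv.refl F) {r : ℕ}
    (hr : r.Prime) (h : orderOf (Phi hG (fld Q σ hσ)) = r) : orderOf σ = r := by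
  have : Fact r.Prime := ⟨hr⟩
  exact orderOf_eq_prime (pow_eq_one_of hG hσ (by rw [← h, pow_orderOf_eq_one])) hσ1

end Cfsg.Agent.H966.OrthCent
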