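import Mathlib
import Cfsg.Agent.H966.OrthCent
import Cfsg.Agent.H202.Count
import Cfsg.Agent.H966.PSpAut
import Cfsg.Agent.ClassicalGeometry.OmegaIndex

/-!
# Odd-dimensional orthogonal groups: similarities, spinor norm, counting classes (helper966)

* `dt_sq` : `det(g)² = μ(g)^n`; `exists_so` : `n` odd: every similarity is a scalar times an element of `SO(Q)`;
* `S_mem_inn_iff` : `n` odd, `h ∈ SO(Q)`: `S h` inner iff `h ∈ Ω`;
* `mapIso`, `map_reflIso` : reflections over a subfield;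
* `spinor_map_of_sq` : if all `j c` are squares, elements of `SO(Q₀)` are in `Ω(Q)`;
* `splitCount_odd`, `splitCount_two`.
-/

set_option autoImplicit false
set_option linter.unusedSectionVars false

namespace Cfsg.Agent.H966.OrthOdd

open Cfsg Matrix QuadraticMap
open Cfsg.Agent.LieClassical.OrthCore Cfsg.Agent.LieClassical.OrthTrans
  Cfsg.Agent.ClassicalGeometry.OrthSemi Cfsg.Agent.H198.OrthFrame Cfsg.Agent.H198.Carriers
  Cfsg.Agent.H198.ClassesPlus
  Cfsg.Agent.H202.Descent Cfsg.Agent.H966.OrthCent Cfsg.Agent.ClassicalGeometry.Reflection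
  Cfsg.Agent.ClassicalGeometry.SpinorSign Cfsg.Agent.ClassicalGeometry.OmegaIndex
  Cfsg.Agent.ClassicalGeometry.Universal Cfsg.Agent.ClassicalGeometry.CartanDieudonne

universe u v

variable {ι : Type} [Fintype ι] [DecidableEq ι] {F : Type u} [Field F] {F₀ : Type v} [Field F₀]
  {Q : QuadraticForm F (ι → F)} {Q₀ : QuadraticForm F₀ (ι → F₀)} {j : F₀ →+* F}

theorem nondeg_bilin (hG : Good Q) : (polarBilin Q).Nondegenerate :=
  H198.Classes.polarBilin_nondegenerate hG.nondeg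

/-- `det(g)² = μ(g)^n`. -/
theorem dt_sq (hG : Good Q) (g : Sim Q) : dt g ^ 2 = mu hG g ^ Fintype.card ι := by
  have hB : (LinearMap.BilinForm.toMatrix' (polarBilin Q)).det ≠ 0 := by
    rw [← LinearMap.BilinForm.nondegenerate_toBilin'_iff_det_ne_zero,
      Matrix.toBilin'_toMatrix']
    exact nondeg_bilin hG
  have h1 : ((g : GL ι F) : Matrix ι ι F)ᵀ * LinearMap.BilinForm.toMatrix' (polarBilin Q) *
      ((g : GL ι F) : Matrix ι ι F) =
      (mu hG g : F) • LinearMap.BilinForm.toMatrix' (polarBilin Q) := by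
    rw [LinearMap.BilinForm.mul_toMatrix'_mul, transpose_transpose]
    ext i k
    rw [LinearMap.BilinForm.toMatrix'_apply, Matrix.smul_apply,
      LinearMap.BilinForm.toMatrix'_apply, LinearMap.BilinForm.comp_apply, polarBilin_apply_apply,
      polarBilin_apply_apply, Matrix.toLin'_apply, Matrix.toLin'_apply, polar, polar,
      ← Matrix.mulVec_add, mu_spec hG, mu_spec hG, mu_spec hG, smul_eq_mul]
    ring
  have h2 := congrArg Matrix.det h1
  rw [det_mul, det_mul, det_transpose, det_smul] at h2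
  apply Units.ext
  rw [Units.val_pow_eq_pow_val, Units.val_pow_eq_pow_val, dt_apply]
  apply mul_right_cancel₀ hB
  rw [← h2]
  ring

theorem mu_scg (hG : Good Q) (e : Fˣ) : mu hG ⟨scg e, scg_mem Q e⟩ = e * e := by
  apply mu_unique
  intro v
  change Q (((scg e : GL ι F) : Matrix ι ι F) *ᵥ v) = _
  rw [coe_scg, Matrix.smul_mulVec, one_mulVec, QuadraticMap.map_smul, Units.val_mul, smul_eq_mul]

theorem dt_scg (e : Fˣ) : dt (⟨scg e, scg_mem Q e⟩ : Sim Q) = e ^ Fintype.card ι := by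
  apply Units.ext
  rw [dt_apply]
  change ((scg e : GL ι F) : Matrix ι ι F).det = _
  rw [coe_scg, det_smul, det_one, mul_one, Units.val_pow_eq_pow_val]

theorem mem_so_iff (hG : Good Q) (g : Sim Q) :
    (g : GL ι F) ∈ specialIsometryGL F (⇑Q) ↔ mu hG g = 1 ∧ dt g = 1 := by
  rw [mu_eq_one_iff]
  exact Iff.rfl

/-- Every similarity of an odd-dimensional form is a scalar times an element of `SO(Q)`. -/
theorem exists_so (hG : Good Q) (hodd : Odd (Fintype.card ι)) (g : Sim Q) :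
    ∃ e : Fˣ, ((⟨scg e, scg_mem Q e⟩ * g : Sim Q) : GL ι F) ∈ specialIsometryGL F (⇑Q) := by
  obtain ⟨k, hk⟩ := hodd
  have h1 := dt_sq hG g
  refine ⟨mu hG g ^ k * (dt g)⁻¹, ?_⟩
  rw [mem_so_iff hG, map_mul, mu_scg, map_mul, dt_scg]
  have h3 : ∀ a b : Fˣ, a ^ 2 = b ^ Fintype.card ι →
      (b ^ k * a⁻¹) * (b ^ k * a⁻¹) * b = 1 ∧ (b ^ k * a⁻¹) ^ Fintype.card ι * a = 1 := by
    intro a b hab
    rw [hk] at hab ⊢
    constructor
    · have : (b ^ k * a⁻¹) * (b ^ k * a⁻¹) * b = b ^ (2 * k + 1) * (a ^ 2)⁻¹ := by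
        rw [pow_succ, pow_mul', pow_two, pow_two, _root_.mul_inv_rev]
        ac_rfl
      rw [this, hab, mul_inv_cancel]
    · have : (b ^ k * a⁻¹) ^ (2 * k + 1) * a = (b ^ (2 * k + 1)) ^ k * ((a ^ 2) ^ k)⁻¹ := by
        rw [mul_pow, ← pow_mul, ← pow_mul, ← pow_mul, mul_comm k (2 * k + 1), inv_pow, pow_succ a,
          _root_.mul_inv_rev]
        rw [mul_assoc, mul_comm a⁻¹, inv_mul_cancel_right]
      rw [this, hab, mul_inv_cancel]
  exact h3 _ _ h1

/-- Two elements of `SO(Q)` with the same image are equal. -/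
theorem so_injective (hG : Good Q) (hodd : Odd (Fintype.card ι)) {g h : Sim Q}
    (hg : (g : GL ι F) ∈ specialIsometryGL F (⇑Q)) (hh : (h : GL ι F) ∈ specialIsometryGL F (⇑Q))
    (H : S hG g = S hG h) : g = h := by
  have h1 : S hG (g * h⁻¹) = 1 := by rw [map_mul, map_inv, H, mul_inv_cancel]
  obtain ⟨a, ha⟩ := (S_eq_one_iff hG _).1 h1
  have h2 : g * h⁻¹ = ⟨scg a, scg_mem Q a⟩ := Subtype.ext (Units.ext ha)
  rw [mem_so_iff hG] at hg hh
  have h3 : mu hG (g * h⁻¹) = 1 := by rw [map_mul, map_inv, hg.1, hh.1, inv_one, mul_one]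
  have h4 : dt (g * h⁻¹) = 1 := by rw [map_mul, map_inv, hg.2, hh.2, inv_one, mul_one]
  rw [h2, mu_scg] at h3
  rw [h2, dt_scg] at h4
  obtain ⟨k, hk⟩ := hodd
  have h5 : a = 1 := by
    rw [hk, pow_succ, pow_mul, pow_two, h3, one_pow, one_mul] at h4
    exact h4
  have h6 : g * h⁻¹ = 1 := by
    rw [h2, h5]
    apply Subtype.ext
    apply Units.ext
    change ((scg (1 : Fˣ) : GL ι F) : Matrix ι ι F) = 1
    rw [coe_scg, Units.val_one, one_smul]
  exact mul_inv_eq_one.1 h6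

theorem range_eq_so (hG : Good Q) (hodd : Odd (Fintype.card ι)) :
    (S hG).range = ((specialIsometryGL F (⇑Q)).subgroupOf (Sim Q)).map (S hG) := by
  apply le_antisymm
  · rintro _ ⟨g, rfl⟩
    obtain ⟨e, he⟩ := exists_so hG hodd g
    refine ⟨(⟨scg e, scg_mem Q e⟩ : Sim Q) * g, Subgroup.mem_subgroupOf.2 he, ?_⟩
    rw [map_mul, S_scg, one_mul]
  · rintro _ ⟨g, -, rfl⟩
    exact ⟨g, rfl⟩

/-- `Ω ≤ SO`. -/
theorem omGL_le_so [Finite F] (h2 : (2 : F) ≠ 0) (hG : Good Q) :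
    omGL Q ≤ specialIsometryGL F (⇑Q) := by
  intro g hg
  obtain ⟨h1, h3⟩ := mem_omGL.1 hg
  rw [mem_Omega_iff h2 Q (nondeg_bilin hG) (by
    have := hG.dim
    rw [Module.finrank_fintype_fun_eq_card] at this
    omega) one_ne_zero] at h3
  refine ⟨h1, ?_⟩
  apply Units.ext
  exact h3.1

/-- `S h` is inner iff `h ∈ Ω`, for `h ∈ SO(Q)`. -/
theorem S_mem_inn_iff [Finite F] (h2 : (2 : F) ≠ 0) (hG : Good Q) (hodd : Odd (Fintype.card ι))
    {g : Sim Q} (hg : (g : GL ι F) ∈ specialIsometryGL F (⇑Q)) :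
    S hG g ∈ Inn (POmega F (⇑Q)) ↔ spinorSign (⇑Q) 1 ⟨g, hg.1⟩ = 1 := by
  have hn : 2 ≤ Fintype.card ι := by
    have := hG.dim
    rw [Module.finrank_fintype_fun_eq_card] at this
    omega
  have h0 : spinorSign (⇑Q) 1 ⟨g, hg.1⟩ = 1 ↔ (g : GL ι F) ∈ omGL Q := by
    rw [mem_omGL]
    constructor
    · intro h
      refine ⟨hg.1, (mem_Omega_iff h2 Q (nondeg_bilin hG) hn one_ne_zero _).2 ⟨?_, h⟩⟩
      exact congrArg Units.val hg.2
    · rintro ⟨h, h'⟩
      exact ((mem_Omega_iff h2 Q (nondeg_bilin hG) hn one_ne_zero _).1 h').2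
  rw [h0, inn_eq hG]
  constructor
  · rintro ⟨k, hk, hkg⟩
    have h3 := so_injective hG hodd (omGL_le_so h2 hG hk) hg hkg
    rw [← h3]
    exact hk
  · intro h
    exact ⟨g, h, rfl⟩

/-! ### Reflections over the subfield -/

theorem mapIso_mem (hQ : ∀ v : ι → F₀, Q (fun i => j (v i)) = j (Q₀ v)) {g : GL ι F₀}
    (hg : g ∈ isometryGroup F₀ (⇑Q₀)) : Matrix.GeneralLinearGroup.map j g ∈ isometryGroup F (⇑Q) := by
  rw [mem_isometryGroup_iff] at hg ⊢
  have key := (sim_iff_single (Q := Q) (M := ((Matrix.GeneralLinearGroup.map j g : GL ι F) :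
    Matrix ι ι F)) (c := 1)).2 ⟨?_, ?_⟩
  · intro x
    rw [key x, one_mul]
  · intro i
    rw [← single_map j]
    change Q (((g : Matrix ι ι F₀).map j) *ᵥ _) = _
    rw [OrthCent.map_mulVec_hom, hQ, hg, hQ, one_mul]
  · intro i k
    rw [← single_add_map j]
    change Q (((g : Matrix ι ι F₀).map j) *ᵥ _) = _
    rw [OrthCent.map_mulVec_hom, hQ, hg, hQ, one_mul]

/-- `O(Q₀) → O(Q)` -/
def mapIso (hQ : ∀ v : ι → F₀, Q (fun i => j (v i)) = j (Q₀ v)) :
    isometryGroup F₀ (⇑Q₀) →* isometryGroup F (⇑Q) where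
  toFun g := ⟨Matrix.GeneralLinearGroup.map j (g : GL ι F₀), mapIso_mem hQ g.2⟩
  map_one' := Subtype.ext (map_one _)
  map_mul' _ _ := Subtype.ext (map_mul _ _ _)

theorem coe_mapIso (hQ : ∀ v : ι → F₀, Q (fun i => j (v i)) = j (Q₀ v))
    (g : isometryGroup F₀ (⇑Q₀)) : ((mapIso hQ g : GL ι F) : Matrix ι ι F) =
      ((g : GL ι F₀) : Matrix ι ι F₀).map j := rfl

theorem polar_map (hQ : ∀ v : ι → F₀, Q (fun i => j (v i)) = j (Q₀ v)) (v w : ι → F₀) :
    polar (⇑Q) (fun i => j (v i)) (fun i => j (w i)) = j (polar (⇑Q₀) v w) := by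
  rw [polar, polar, map_sub, map_sub, ← hQ, ← hQ, ← hQ]
  congr 3
  funext i
  simp

theorem map_ne_zero_of (hQ : ∀ v : ι → F₀, Q (fun i => j (v i)) = j (Q₀ v)) {v : ι → F₀}
    (hv : Q₀ v ≠ 0) : Q (fun i => j (v i)) ≠ 0 := by
  rw [hQ]
  intro h
  exact hv (j.injective (h.trans (map_zero j).symm))

theorem map_reflIso (hQ : ∀ v : ι → F₀, Q (fun i => j (v i)) = j (Q₀ v)) {v : ι → F₀}
    (hv : Q₀ v ≠ 0) : mapIso hQ (reflIso Q₀ v hv) =
      reflIso Q (fun i => j (v i)) (map_ne_zero_of hQ hv) := by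
  apply Subtype.ext
  apply Units.ext
  rw [coe_mapIso, coe_reflIso, coe_reflIso]
  ext i k
  have h1 : Cfsg.polarVec (⇑Q) (fun i => j (v i)) k = j (Cfsg.polarVec (⇑Q₀) v k) := by
    rw [polarVec_apply, polarVec_apply, ← single_map j, polar_map hQ]
  rw [reflectionMatrix_def, reflectionMatrix_def]
  simp only [Matrix.map_apply, Matrix.sub_apply, Matrix.smul_apply, Matrix.vecMulVec_apply,
    smul_eq_mul, map_sub, map_mul, h1, hQ, map_inv₀, Matrix.one_apply]
  split_ifs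
  · rw [map_one]
  · rw [map_zero]

/-- If all elements of the subfield are squares in `F`, the spinor norm of an isometry over the subfield is the
determinant. -/
theorem spinor_map_of_sq [Finite F] (h2 : (2 : F) ≠ 0) (hG₀ : Good Q₀)
    (hQ : ∀ v : ι → F₀, Q (fun i => j (v i)) = j (Q₀ v)) (hsq : ∀ c : F₀, IsSquare (j c))
    (g : isometryGroup F₀ (⇑Q₀)) :
    (spinorSign (⇑Q) 1 (mapIso hQ g) = 1 ∧ ((g : GL ι F₀) : Matrix ι ι F₀).det = 1) ∨
    (spinorSign (⇑Q) 1 (mapIso hQ g) = -1 ∧ ((g : GL ι F₀) : Matrix ι ι F₀).det = -1) := by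
  classical
  have h20 : (2 : F₀) ≠ 0 := by
    intro h
    apply h2
    have := congrArg j h
    rwa [map_ofNat, map_zero] at this
  refine isometry_induction h20 Q₀ (nondeg_bilin hG₀) (fun g =>
    (spinorSign (⇑Q) 1 (mapIso hQ g) = 1 ∧ ((g : GL ι F₀) : Matrix ι ι F₀).det = 1) ∨
    (spinorSign (⇑Q) 1 (mapIso hQ g) = -1 ∧ ((g : GL ι F₀) : Matrix ι ι F₀).det = -1)) ?_ ?_ g
  · left
    rw [map_one, map_one]
    refine ⟨rfl, ?_⟩
    change (1 : Matrix ι ι F₀).det = 1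
    exact det_one
  · intro v hv g hg
    have h3 : spinorSign (⇑Q) 1 (mapIso hQ (reflIso Q₀ v hv * g)) =
        - spinorSign (⇑Q) 1 (mapIso hQ g) := by
      rw [map_mul, map_mul, map_reflIso, spinorSign_reflIso h2 Q one_ne_zero, one_mul, hQ,
        if_pos (hsq _), neg_one_mul]
    have h4 : (((reflIso Q₀ v hv * g : isometryGroup F₀ (⇑Q₀)) : GL ι F₀) : Matrix ι ι F₀).det =
        - ((g : GL ι F₀) : Matrix ι ι F₀).det := by
      rw [Subgroup.coe_mul, Units.val_mul, Matrix.det_mul, det_reflIso, neg_one_mul]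
    rw [h3, h4]
    rcases hg with ⟨a, b⟩ | ⟨a, b⟩
    · right
      rw [a, b]
      exact ⟨rfl, rfl⟩
    · left
      rw [a, b]
      exact ⟨neg_neg 1, neg_neg 1⟩

/-! ### Counting -/

/-- `SO(Q) → Sim(Q)` -/
def soSim (Q : QuadraticForm F (ι → F)) : specialIsometryGL F (⇑Q) →* Sim Q :=
  Subgroup.inclusion (fun _ hg => iso_le_sim Q hg.1)

/-- `SO(Q) → O(Q)` -/
def soIso (Q : QuadraticForm F (ι → F)) : specialIsometryGL F (⇑Q) →* isometryGroup F (⇑Q) :=
  Subgroup.inclusion inf_le_left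

/-- The spinor norm on `SO(Q)`. -/
noncomputable def chi [Finite F] (Q : QuadraticForm F (ι → F)) : specialIsometryGL F (⇑Q) →* ℤˣ :=
  (spinorSign (⇑Q) 1).comp (soIso Q)

theorem chi_apply [Finite F] (b : specialIsometryGL F (⇑Q)) :
    chi Q b = spinorSign (⇑Q) 1 ⟨b, b.2.1⟩ := rfl

theorem range_theta (hG : Good Q) (hodd : Odd (Fintype.card ι)) :
    (S hG).range = ((S hG).comp (soSim Q)).range := by
  apply le_antisymm
  · rintro _ ⟨g, rfl⟩
    obtain ⟨e, he⟩ := exists_so hG hodd g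
    refine ⟨⟨_, he⟩, ?_⟩
    change S hG ((⟨scg e, scg_mem Q e⟩ : Sim Q) * g) = _
    rw [map_mul, S_scg, one_mul]
  · rintro _ ⟨g, rfl⟩
    exact ⟨_, rfl⟩

theorem comap_inn [Finite F] (h2 : (2 : F) ≠ 0) (hG : Good Q) (hodd : Odd (Fintype.card ι)) :
    (Inn (POmega F (⇑Q))).comap ((S hG).comp (soSim Q)) = (chi Q).ker := by
  ext b
  rw [Subgroup.mem_comap, MonoidHom.mem_ker, chi_apply]
  exact S_mem_inn_iff h2 hG hodd (g := soSim Q b) b.2

/-- An element of `SO(Q)` centralizes the field automorphism iff it comes from `SO(Q₀)`. -/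
theorem mem_cent_iff (hG : Good Q) (hG₀ : Good Q₀) (hodd : Odd (Fintype.card ι))
    (hQ : ∀ v : ι → F₀, Q (fun i => j (v i)) = j (Q₀ v))
    {σ : F ≃+* F} (hσ : ∀ v : ι → F, Q (fun i => σ (v i)) = σ (Q v))
    (hj : ∀ a, σ a = a ↔ ∃ b, j b = a) (b : specialIsometryGL F (⇑Q)) :
    S hG (soSim Q b) ∈ Subgroup.centralizer {Phi hG (fld Q σ hσ)} ↔
      ∃ g : isometryGroup F₀ (⇑Q₀), ((g : GL ι F₀) : Matrix ι ι F₀).det = 1 ∧
        mapIso hQ g = soIso Q b := by
  have hne := exists_ne_zero_of_good hG₀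
  have h0 := cent_eq hG hQ hne hσ hj (H := ⊤) (H₀ := ⊤) (fun _ => Subgroup.mem_top _)
    (fun _ => ⟨fun _ => Subgroup.mem_top _, fun _ => Subgroup.mem_top _⟩)
  constructor
  · intro h
    have h1 : S hG (soSim Q b) ∈ (⊤ : Subgroup (Sim Q)).map (S hG) ⊓
        Subgroup.centralizer {Phi hG (fld Q σ hσ)} := ⟨⟨_, Subgroup.mem_top _, rfl⟩, h⟩
    rw [h0] at h1
    obtain ⟨g, -, hg⟩ := h1
    obtain ⟨e, he⟩ := exists_so hG₀ hodd g
    have h3 : S hG (mapSim hQ hne ((⟨scg e, scg_mem Q₀ e⟩ : Sim Q₀) * g)) = S hG (soSim Q b) := by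
      rw [map_mul, map_mul, (map_eq_one_iff hG hG₀ hQ hne _).2 (S_scg hG₀ e), one_mul]
      exact hg
    have hso : ((mapSim hQ hne ((⟨scg e, scg_mem Q₀ e⟩ : Sim Q₀) * g) : Sim Q) : GL ι F) ∈
        specialIsometryGL F (⇑Q) := by
      refine ⟨mapIso_mem hQ he.1, ?_⟩
      apply Units.ext
      have h4 := congrArg Units.val he.2
      have h5 : (((((⟨scg e, scg_mem Q₀ e⟩ : Sim Q₀) * g : Sim Q₀) : GL ι F₀) :
        Matrix ι ι F₀)).det = 1 := h4
      change ((((((⟨scg e, scg_mem Q₀ e⟩ : Sim Q₀) * g : Sim Q₀) : GL ι F₀) :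
        Matrix ι ι F₀)).map j).det = 1
      rw [← RingHom.mapMatrix_apply, ← RingHom.map_det, h5, map_one]
    have h4 := so_injective hG hodd hso (h := soSim Q b) b.2 h3
    refine ⟨⟨_, he.1⟩, ?_, ?_⟩
    · exact congrArg Units.val he.2
    · apply Subtype.ext
      have h6 : (mapSim hQ hne ((⟨scg e, scg_mem Q₀ e⟩ : Sim Q₀) * g) : GL ι F) = soSim Q b :=
        congrArg Subtype.val h4
      exact h6
  · rintro ⟨g, hg, hgb⟩
    have hmem : (g : GL ι F₀) ∈ Sim Q₀ := iso_le_sim Q₀ g.2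
    have h1 : S hG (soSim Q b) ∈ (⊤ : Subgroup (Sim Q₀)).map ((S hG).comp (mapSim hQ hne)) := by
      refine ⟨⟨g, hmem⟩, Subgroup.mem_top _, ?_⟩
      have h4 : mapSim hQ hne ⟨g, hmem⟩ = soSim Q b := by
        apply Subtype.ext
        have h6 : (mapIso hQ g : GL ι F) = soIso Q b := congrArg Subtype.val hgb
        exact h6
      rw [MonoidHom.comp_apply, h4]
    rw [← h0] at h1
    exact h1.2

/-- The number of classes. -/
theorem splitCount_eq [Finite F] (h2 : (2 : F) ≠ 0) (hG : Good Q) (hodd : Odd (Fintype.card ι))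
    (x : MulAut (POmega F (⇑Q))) :
    splitClassCount (S hG).range (Inn (POmega F (⇑Q))) x =
      (((Subgroup.centralizer ({x} : Set _)).comap ((S hG).comp (soSim Q))).map (chi Q)).index := by
  have hn : 2 ≤ Fintype.card ι := by
    have := hG.dim
    rw [Module.finrank_fintype_fun_eq_card] at this
    omega
  have hsurj : Function.Surjective (chi Q) := by
    intro u
    rcases Int.units_eq_one_or u with rfl | rfl
    · exact ⟨1, map_one _⟩
    · obtain ⟨⟨v, hv⟩, w, hw0, hw⟩ := exists_isSquare_and_not h2 Q (nondeg_bilin hG) hn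
      have hv0 : Q v ≠ 0 := by rw [hv]; exact one_ne_zero
      have hmem : ((reflIso Q v hv0 * reflIso Q w hw0 : isometryGroup F (⇑Q)) : GL ι F) ∈
          specialIsometryGL F (⇑Q) := by
        refine ⟨Subtype.property _, ?_⟩
        apply Units.ext
        change (((reflIso Q v hv0 * reflIso Q w hw0 : isometryGroup F (⇑Q)) : GL ι F) :
          Matrix ι ι F).det = 1
        rw [Subgroup.coe_mul, Units.val_mul, Matrix.det_mul, det_reflIso, det_reflIso]
        ring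
      refine ⟨⟨_, hmem⟩, ?_⟩
      rw [chi_apply]
      change spinorSign (⇑Q) 1 (reflIso Q v hv0 * reflIso Q w hw0) = -1
      classical
      rw [map_mul, spinorSign_reflIso h2 Q one_ne_zero, spinorSign_reflIso h2 Q one_ne_zero,
        one_mul, one_mul, hv, if_pos IsSquare.one, if_neg hw, mul_one]
  have hle : Inn (POmega F (⇑Q)) ≤ (S hG).range := by
    rw [inn_eq hG]
    rintro _ ⟨g, -, rfl⟩
    exact ⟨g, rfl⟩
  rw [H202.Count.count_general ((S hG).comp (soSim Q)) (chi Q) hsurj (range_theta hG hodd) hle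
    (fun h _ k hk => (H966.PSpAut.inner_normal _).conj_mem k hk h) (by rw [comap_inn h2 hG hodd]) x,
    comap_inn h2 hG hodd]
  congr 1
  apply sup_eq_right.2
  rintro _ ⟨b, hb, rfl⟩
  have hb' : chi Q b = 1 := hb
  rw [hb']
  exact one_mem _

end Cfsg.Agent.H966.OrthOdd
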