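import Cfsg.Agent.H568.Row

/-!
# A criterion for the sporadic rows of S4329 (helper966)

For an inner automorphism `a = conj s` of order `p` it is enough to have ONE prime `l` dividing the order of the
group, not dividing the order of the centraliser of `s`, and such that `l ∤ p ^ k - 1` for the powers `p ^ k` of `p`
dividing the order of the group.
-/

set_option autoImplicit false

namespace Cfsg.Agent.H966.SporCrit

open Subgroup Cfsg.Agent.H568

variable {S : Type*} [Group S] {p : ℕ}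

/-- An element of prime order `l` with `l ∤ p ^ k - 1` for `p ^ k ∣ |S|` centralises every `p`-subgroup which it
normalises. -/
theorem pcent_of_order [Finite S] [hp : Fact p.Prime] {x : S} {l : ℕ} (hl : l.Prime) (hx : orderOf x = l)
    (hlp : l ≠ p)
    (hord : ∀ k : ℕ, k ≠ 0 → p ^ k ∣ Nat.card S → ¬ l ∣ p ^ k - 1) : PCent p x := by
  classical
  intro Q hQ hn
  have : Fact l.Prime := ⟨hl⟩
  obtain ⟨k, hk⟩ := IsPGroup.iff_card.1 hQ
  -- the centraliser of `x` in `Q`
  set C : Subgroup ↥Q := (centralizer ({x} : Set S)).subgroupOf Q with hC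
  have hdvd : p ^ k ∣ Nat.card S := hk ▸ Subgroup.card_subgroup_dvd_card Q
  have hn' : zpowers x ≤ normalizer (Q : Set S) := by rwa [zpowers_le]
  let act : MulAction ↥(zpowers x) ↥Q :=
    { smul := fun z y => ⟨(z : S) * y * (z : S)⁻¹, (mem_normalizer_iff.1 (hn' z.2) y).1 y.2⟩
      one_smul := fun y => Subtype.ext (by show ((1 : ↥(zpowers x)) : S) * y * ((1 : ↥(zpowers x)) : S)⁻¹ = y; simp)
      mul_smul := fun z z' y => Subtype.ext (by
        show ((z * z' : ↥(zpowers x)) : S) * y * ((z * z' : ↥(zpowers x)) : S)⁻¹ =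
          (z : S) * ((z' : S) * y * (z' : S)⁻¹) * (z : S)⁻¹
        simp [mul_assoc]) }
  have hsm : ∀ (z : ↥(zpowers x)) (y : ↥Q), ((z • y : ↥Q) : S) = (z : S) * y * (z : S)⁻¹ := fun _ _ => rfl
  have hlg : IsPGroup l ↥(zpowers x) := IsPGroup.of_card (n := 1) (by rw [Nat.card_zpowers, hx, pow_one])
  have h1 := hlg.card_modEq_card_fixedPoints (↥Q)
  have hfix : ∀ y : ↥Q, y ∈ MulAction.fixedPoints ↥(zpowers x) ↥Q ↔ y ∈ C := by
    intro y
    rw [hC, mem_subgroupOf, mem_centralizer_singleton_iff]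
    constructor
    · intro h
      have h4 := congrArg Subtype.val (h ⟨x, mem_zpowers x⟩)
      rw [hsm] at h4
      exact (mul_inv_eq_iff_eq_mul.1 h4).symm
    · rintro h ⟨z, hz⟩
      obtain ⟨m, rfl⟩ := hz
      refine Subtype.ext ?_
      rw [hsm]
      show x ^ m * (y : S) * (x ^ m)⁻¹ = y
      rw [mul_inv_eq_iff_eq_mul]
      exact ((show Commute x (y : S) from h.symm).zpow_left m).eq
  have h2 : Nat.card (MulAction.fixedPoints ↥(zpowers x) ↥Q) = Nat.card C :=
    Nat.card_congr (Equiv.subtypeEquivRight hfix)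
  obtain ⟨c, hck, hc⟩ := (Nat.dvd_prime_pow hp.1).1 (hk ▸ Subgroup.card_subgroup_dvd_card C)
  rw [h2, hk, hc] at h1
  have h3 : l ∣ p ^ k - p ^ c := (Nat.modEq_iff_dvd' (Nat.pow_le_pow_right hp.1.pos hck)).1 h1.symm
  have h4 : p ^ k - p ^ c = p ^ c * (p ^ (k - c) - 1) := by
    rw [Nat.mul_sub, mul_one, ← pow_add, Nat.add_sub_cancel' hck]
  rw [h4] at h3
  have h5 : l ∣ p ^ (k - c) - 1 := by
    rcases hl.dvd_mul.1 h3 with h | h
    · exact absurd ((Nat.prime_dvd_prime_iff_eq hl hp.1).1 (hl.dvd_of_dvd_pow h)) hlp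
    · exact h
  have h6 : k = c := by
    by_contra hne
    have h7 : k - c ≠ 0 := by omega
    exact hord (k - c) h7 ((pow_dvd_pow p (Nat.sub_le k c)).trans hdvd) h5
  have h7 : C = ⊤ := by
    rw [← Subgroup.card_eq_iff_eq_top, hc, hk, h6]
  intro y hy
  have h8 : (⟨y, hy⟩ : ↥Q) ∈ C := h7 ▸ mem_top _
  rw [hC, mem_subgroupOf, mem_centralizer_singleton_iff] at h8
  exact h8.symm

/-- The criterion for one inner automorphism. -/
theorem avoid_of_prime [Finite S] [hp : Fact p.Prime] (hZ : center S = ⊥) {a : MulAut S} {s : S}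
    (has : a = MulAut.conj s) {l : ℕ} (hl : l.Prime) (hlS : l ∣ Nat.card S)
    (hlp : l ≠ p)
    (hord : ∀ k : ℕ, k ≠ 0 → p ^ k ∣ Nat.card S → ¬ l ∣ p ^ k - 1)
    (hcs : ¬ l ∣ Nat.card ↥(centralizer ({s} : Set S))) :
    ∃ x : S, ¬ p ∣ orderOf x ∧ Avoid p a x := by
  have : Fact l.Prime := ⟨hl⟩
  obtain ⟨x, hx⟩ := exists_prime_orderOf_dvd_card' l hlS
  refine ⟨x, ?_, ?_⟩
  · rw [hx]
    intro h
    exact hlp ((Nat.prime_dvd_prime_iff_eq hp.1 hl).1 h).symm
  · refine avoid_of_pcent hZ ?_ (pcent_of_order hl hx hlp hord) ?_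
    · rw [hx]
      intro h
      exact hlp ((Nat.prime_dvd_prime_iff_eq hp.1 hl).1 h).symm
    · intro g hg
      apply hcs
      -- `g s` commutes with `x`, hence `s` commutes with `g⁻¹ x`, of order `l`
      have h1 : g * a * g⁻¹ = MulAut.conj (g s) := by
        rw [has]
        ext y
        simp [MulAut.mul_apply, MulAut.conj_apply]
      rw [h1, MulAut.conj_apply, mul_inv_eq_iff_eq_mul] at hg
      have h2 : s * g⁻¹ x = g⁻¹ x * s := by
        have h3 := congrArg (g⁻¹ : MulAut S) hg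
        rw [map_mul, map_mul] at h3
        simpa using h3
      have h4 : g⁻¹ x ∈ centralizer ({s} : Set S) := by
        rw [mem_centralizer_singleton_iff]
        exact h2.symm
      have h5 : orderOf (g⁻¹ x) = l := by
        rw [← hx]
        exact MulEquiv.orderOf_eq g⁻¹ x
      rw [← h5, ← Subgroup.orderOf_mk _ h4]
      exact orderOf_dvd_natCard _

/-- The criterion for a group all of whose automorphisms of order `p` are inner. -/
theorem row_of_primes [Finite S] [hp : Fact p.Prime] (hZ : center S = ⊥)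
    (hout : ∀ a : MulAut S, orderOf a = p → ∃ s : S, a = MulAut.conj s)
    (h : ∀ s : S, orderOf s = p → ∃ l : ℕ, l.Prime ∧ l ∣ Nat.card S ∧ l ≠ p ∧
      (∀ k : ℕ, k ≠ 0 → p ^ k ∣ Nat.card S → ¬ l ∣ p ^ k - 1) ∧ ¬ l ∣ Nat.card ↥(centralizer ({s} : Set S))) :
    Row p S := by
  intro a ha
  obtain ⟨s, hs⟩ := hout a ha
  have hs' : orderOf s = p := by
    rw [← ha, hs]
    symm
    refine orderOf_injective (MulAut.conj : S →* MulAut S) ?_ s
    rw [← MonoidHom.ker_eq_bot_iff, ← hZ]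
    ext x
    rw [MonoidHom.mem_ker, mem_center_iff]
    constructor
    · intro h y
      have h1 : MulAut.conj x y = y := by rw [h]; rfl
      rw [MulAut.conj_apply, mul_inv_eq_iff_eq_mul] at h1
      exact h1.symm
    · intro h
      ext y
      rw [MulAut.conj_apply, ← h y, mul_inv_cancel_right]
      rfl
  obtain ⟨l, hl, h1, h2, h3, h4⟩ := h s hs'
  exact avoid_of_prime hZ hs hl h1 h2 h3 h4

end Cfsg.Agent.H966.SporCrit
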